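import Groth.Agent.GITQuot.Geom
import Mathlib.AlgebraicGeometry.Morphisms.Flat
import Mathlib.AlgebraicGeometry.Sites.Fpqc
import Mathlib.Algebra.Polynomial.Eval.Defs

/-!
# Functions as morphisms to the affine line, and descent along quotient maps
-/

universe u

open CategoryTheory CategoryTheory.Limits MonoidalCategory CartesianMonoidalCategory AlgebraicGeometry Topology

namespace Groth.Agent.GITQuot

/-- The coordinate ring of the affine line. -/
noncomputable abbrev A1 : CommRingCat.{u} := CommRingCat.of (Polynomial (ULift.{u} ℤ))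

noncomputable def evalA1 {R : CommRingCat.{u}} (t : R) : A1.{u} ⟶ R :=
  CommRingCat.ofHom (Polynomial.eval₂RingHom ((Int.castRingHom R).comp ULift.ringEquiv.toRingHom) t)

theorem evalA1_X {R : CommRingCat.{u}} (t : R) : evalA1 t Polynomial.X = t := by
  simp [evalA1]

theorem evalA1_comp {R R' : CommRingCat.{u}} (t : R) (g : R ⟶ R') : evalA1 t ≫ g = evalA1 (g t) := by
  refine CommRingCat.hom_ext (Polynomial.ringHom_ext (fun n => ?_) ?_)
  · obtain ⟨n⟩ := n
    simp [evalA1]
  · simp [evalA1]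

theorem hom_A1 {R : CommRingCat.{u}} (g : A1.{u} ⟶ R) : g = evalA1 (g Polynomial.X) := by
  refine CommRingCat.hom_ext (Polynomial.ringHom_ext (fun n => ?_) ?_)
  · exact (RingHom.congr_fun (Subsingleton.elim
      ((g.hom.comp Polynomial.C).comp ULift.ringEquiv.symm.toRingHom)
      (((evalA1 (g Polynomial.X)).hom.comp Polynomial.C).comp ULift.ringEquiv.symm.toRingHom)) n.down)
  · simp [evalA1]

/-- A function on an open as a morphism to the affine line. -/
noncomputable def hat {Z : Scheme.{u}} {U : Z.Opens} (t : Γ(Z, U)) : U.toScheme ⟶ Spec A1.{u} :=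
  U.toSpecΓ ≫ Spec.map (evalA1 t)

theorem hat_appTop {Z : Scheme.{u}} {U : Z.Opens} (t : Γ(Z, U)) :
    (hat t).appTop = (Scheme.ΓSpecIso A1.{u}).hom ≫ evalA1 t ≫ U.topIso.inv := by
  rw [hat, Scheme.Hom.comp_appTop, Scheme.Opens.toSpecΓ_appTop]
  rw [← Category.assoc]
  erw [Scheme.ΓSpecIso_naturality]
  rw [Category.assoc]

theorem hat_injective {Z : Scheme.{u}} {U : Z.Opens} : Function.Injective (hat : Γ(Z, U) → _) := by
  intro s t h
  have := congrArg Scheme.Hom.appTop h
  rw [hat_appTop, hat_appTop, Iso.cancel_iso_hom_left, Iso.cancel_iso_inv_right] at this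
  rw [← evalA1_X s, this, evalA1_X]

theorem hat_surjective {Z : Scheme.{u}} {U : Z.Opens} : Function.Surjective (hat : Γ(Z, U) → _) := by
  intro χ
  let g : A1.{u} ⟶ Γ(Z, U) := (Scheme.ΓSpecIso A1.{u}).inv ≫ χ.appTop ≫ U.topIso.hom
  refine ⟨g Polynomial.X, ext_of_isAffine ?_⟩
  rw [hat_appTop, ← hom_A1 g]
  simp only [g, Category.assoc, Iso.hom_inv_id_assoc, Iso.hom_inv_id, Category.comp_id]

theorem resLE_hat {Z W : Scheme.{u}} (f : Z ⟶ W) (U : W.Opens) (V : Z.Opens) (e : V ≤ f ⁻¹ᵁ U) (t : Γ(W, U)) :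
    f.resLE U V e ≫ hat t = hat (f.appLE U V e t) := by
  rw [hat, hat, ← evalA1_comp, Spec.map_comp, ← Category.assoc, ← Scheme.Opens.toSpecΓ_SpecMap_appLE,
    Category.assoc]

theorem morphismRestrict_hat {Z W : Scheme.{u}} (f : Z ⟶ W) (U : W.Opens) (t : Γ(W, U)) :
    f ∣_ U ≫ hat t = hat (f.app U t) := by
  rw [hat, hat, ← evalA1_comp, Spec.map_comp, ← Category.assoc, ← Scheme.Opens.toSpecΓ_naturality, Category.assoc]

variable {S : Scheme.{u}} {G X Y : Over S} [GrpObj G] {a : AlgGrp.Action G X} {φ : X ⟶ Y}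

/-- The functions criterion: invariant functions descend along an effective epimorphism with enough translations. -/
theorem sections_of_effectiveEpi (hi : GIT.IsInvariant a φ) (U : Y.left.Opens) [EffectiveEpi (φ.left ∣_ U)]
    (hlift : ∀ {Z : Scheme.{u}} (g₁ g₂ : Z ⟶ X.left), g₁ ≫ φ.left = g₂ ≫ φ.left →
      ∃ (Z' : Scheme.{u}) (e : Z' ⟶ Z) (w : Z' ⟶ (G ⊗ X).left), Epi e ∧ w ≫ a.act.left = e ≫ g₁ ∧
        w ≫ (snd G X).left = e ≫ g₂) :
    Function.Injective (φ.left.app U) ∧ Set.range (φ.left.app U) = {f | GIT.IsInvSection a φ U f} := by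
  constructor
  · intro s t h
    apply hat_injective
    rw [← cancel_epi (φ.left ∣_ U), morphismRestrict_hat, morphismRestrict_hat, h]
  · refine Set.Subset.antisymm ?_ fun f hf => ?_
    · rintro _ ⟨t, rfl⟩
      have e : φ.left ⁻¹ᵁ U ≤ φ.left ⁻¹ᵁ U := le_rfl
      have h := isInvSection_appLE (φ := φ) φ hi U U e t
      rwa [Scheme.Hom.appLE_eq_app] at h
    · have hcond : ∀ {Z : Scheme.{u}} (g₁ g₂ : Z ⟶ (φ.left ⁻¹ᵁ U).toScheme),
          g₁ ≫ φ.left ∣_ U = g₂ ≫ φ.left ∣_ U → g₁ ≫ hat f = g₂ ≫ hat f := by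
        intro Z g₁ g₂ h
        have h' := congrArg (fun T => T ≫ U.ι) h
        simp only [Category.assoc, morphismRestrict_ι] at h'
        obtain ⟨Z', e, w, he, hw₁, hw₂⟩ := hlift (g₁ ≫ (φ.left ⁻¹ᵁ U).ι) (g₂ ≫ (φ.left ⁻¹ᵁ U).ι)
          (by simpa only [Category.assoc] using h')
        let W := a.act.left ⁻¹ᵁ (φ.left ⁻¹ᵁ U) ⊓ (snd G X).left ⁻¹ᵁ (φ.left ⁻¹ᵁ U)
        have hmem : ∀ (g : Z ⟶ (φ.left ⁻¹ᵁ U).toScheme) (z : Z'),
            (e ≫ g ≫ (φ.left ⁻¹ᵁ U).ι).base z ∈ φ.left ⁻¹ᵁ U := fun g z => (g.base (e.base z)).2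
        have hwW : Set.range w.base ⊆ Set.range W.ι.base := by
          rintro _ ⟨z, rfl⟩
          rw [Scheme.Opens.range_ι]
          refine ⟨?_, ?_⟩
          · show a.act.left.base (w.base z) ∈ φ.left ⁻¹ᵁ U
            rw [← Scheme.Hom.comp_apply, hw₁]
            exact hmem g₁ z
          · show (snd G X).left.base (w.base z) ∈ φ.left ⁻¹ᵁ U
            rw [← Scheme.Hom.comp_apply, hw₂]
            exact hmem g₂ z
        let w' := IsOpenImmersion.lift W.ι w hwW
        have hw' : w' ≫ W.ι = w := IsOpenImmersion.lift_fac _ _ _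
        have key : ∀ (p : (G ⊗ X).left ⟶ X.left) (hp : W ≤ p ⁻¹ᵁ (φ.left ⁻¹ᵁ U))
            (g : Z ⟶ (φ.left ⁻¹ᵁ U).toScheme), w ≫ p = e ≫ g ≫ (φ.left ⁻¹ᵁ U).ι →
            w' ≫ hat (p.appLE (φ.left ⁻¹ᵁ U) W hp f) = e ≫ g ≫ hat f := by
          intro p hp g hg
          have : w' ≫ p.resLE (φ.left ⁻¹ᵁ U) W hp = e ≫ g := by
            rw [← cancel_mono (φ.left ⁻¹ᵁ U).ι, Category.assoc, Scheme.Hom.resLE_comp_ι, ← Category.assoc, hw', hg,
              Category.assoc]
          rw [← resLE_hat, ← Category.assoc, this, Category.assoc]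
        haveI := he
        rw [← cancel_epi e, ← key a.act.left inf_le_left g₁ hw₁, ← key (snd G X).left inf_le_right g₂ hw₂]
        exact congrArg (fun s => w' ≫ hat s) hf
      obtain ⟨t, ht⟩ := hat_surjective (EffectiveEpi.desc (φ.left ∣_ U) (hat f) hcond)
      refine ⟨t, hat_injective ?_⟩
      rw [← morphismRestrict_hat, ht]
      exact EffectiveEpi.fac (φ.left ∣_ U) (hat f) hcond

/-- A flat surjective quasi-compact invariant map with all fibres orbits in the strong sense is a geometric quotient. -/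
theorem isGeomQuot_of_flat (hi : GIT.IsInvariant a φ) [Flat φ.left] [Surjective φ.left] [QuasiCompact φ.left]
    [IsIso (GIT.PsiY a φ hi)] : GIT.IsGeomQuot a φ where
  inv := hi
  surj := φ.left.surjective
  orbit := (GIT.PsiY a φ hi).surjective
  subm := by
    intro X' Y' i₁ i₂ f' h
    haveI : Flat f' := MorphismProperty.of_isPullback h.flip (by infer_instance)
    haveI : Surjective f' := MorphismProperty.of_isPullback h.flip (by infer_instance)
    haveI : QuasiCompact f' := MorphismProperty.of_isPullback h.flip (by infer_instance)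
    exact Flat.isQuotientMap_of_surjective f'
  sections U := by
    haveI : Surjective (φ.left ∣_ U) := IsZariskiLocalAtTarget.restrict (P := @Surjective) ‹_› U
    refine sections_of_effectiveEpi hi U fun {Z} g₁ g₂ h => ⟨Z, 𝟙 _, pullback.lift g₁ g₂ h ≫ inv (GIT.PsiY a φ hi),
      inferInstance, ?_, ?_⟩
    · have : GIT.PsiY a φ hi ≫ pullback.fst φ.left φ.left = a.act.left := pullback.lift_fst _ _ _
      rw [← this, Category.id_comp]
      simp only [Category.assoc, IsIso.inv_hom_id_assoc]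
      exact pullback.lift_fst _ _ _
    · have : GIT.PsiY a φ hi ≫ pullback.snd φ.left φ.left = (snd G X).left := pullback.lift_snd _ _ _
      rw [← this, Category.id_comp]
      simp only [Category.assoc, IsIso.inv_hom_id_assoc]
      exact pullback.lift_snd _ _ _

end Groth.Agent.GITQuot
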