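import Groth.Agent.GITQuot.Orbit
import Groth.Agent.GITQuot.Func
import Mathlib.AlgebraicGeometry.Morphisms.UniversallyOpen
import Mathlib.CategoryTheory.Comma.Over.Pullback
import Mathlib.CategoryTheory.Limits.Constructions.Over.Connected

/-!
# Base change of invariant maps
-/

universe u

open CategoryTheory CategoryTheory.Limits MonoidalCategory CartesianMonoidalCategory MonObj AlgebraicGeometry Topology

namespace Groth.Agent.GITQuot

variable {S : Scheme.{u}} {G X Y : Over S} [GrpObj G] {a : AlgGrp.Action G X} {φ : X ⟶ Y}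
variable {X' Y' : Over S} {pr : X' ⟶ X} {φ' : X' ⟶ Y'} {g : Y' ⟶ Y}

/-- The action induced on a base change. -/
theorem exists_action (hi : GIT.IsInvariant a φ) (hpb : IsPullback pr φ' φ g) :
    ∃ a' : AlgGrp.Action G X', a'.act ≫ pr = (G ◁ pr) ≫ a.act ∧ GIT.IsInvariant a' φ' := by
  have w : ((G ◁ pr) ≫ a.act) ≫ φ = (snd G X' ≫ φ') ≫ g := by
    rw [Category.assoc, hi, ← Category.assoc, whiskerLeft_snd, Category.assoc, hpb.w, Category.assoc]
  let act : G ⊗ X' ⟶ X' := hpb.lift ((G ◁ pr) ≫ a.act) (snd G X' ≫ φ') w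
  have h1 : act ≫ pr = (G ◁ pr) ≫ a.act := hpb.lift_fst _ _ _
  have h2 : act ≫ φ' = snd G X' ≫ φ' := hpb.lift_snd _ _ _
  refine ⟨⟨act, ?_, ?_⟩, h1, h2⟩
  · apply hpb.hom_ext
    · rw [Category.assoc, h1, ← whisker_exchange_assoc, a.one_act]
      simp
    · rw [Category.assoc, h2]
      simp [leftUnitor_hom]
  · apply hpb.hom_ext
    · rw [Category.assoc, h1, ← whisker_exchange_assoc, a.mul_act, Category.assoc, Category.assoc, h1,
        associator_naturality_right_assoc, ← MonoidalCategory.whiskerLeft_comp_assoc,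
        ← MonoidalCategory.whiskerLeft_comp_assoc, h1]
    · simp [h2]

theorem isPullback_left (hpb : IsPullback pr φ' φ g) : IsPullback pr.left φ'.left φ.left g.left :=
  hpb.map (Over.forget S)

theorem isPullback_tensorLeft {T' T : Over S} (f : T' ⟶ T) : IsPullback (G ◁ f) (snd G T') (snd G T) f := by
  have hf : ∀ Z : Over S, IsPullback (fst G Z) (snd G Z) (toUnit G) (toUnit Z) := fun Z => by
    have h := IsPullback.of_is_product (C := Over S) (tensorProductIsBinaryProduct G Z) isTerminalTensorUnit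
    have e1 : isTerminalTensorUnit.from G = toUnit G := toUnit_unique _ _
    have e2 : isTerminalTensorUnit.from Z = toUnit Z := toUnit_unique _ _
    simpa [e1, e2] using h
  exact IsPullback.of_right (by simpa using hf T') (by simp) (hf T)

theorem isPullback_act (hi : GIT.IsInvariant a φ) (hpb : IsPullback pr φ' φ g) (act' : G ⊗ X' ⟶ X')
    (heq : act' ≫ pr = (G ◁ pr) ≫ a.act) (hinv : act' ≫ φ' = snd G X' ≫ φ') :
    IsPullback (G ◁ pr) act' a.act pr := by
  refine IsPullback.of_bot ?_ heq.symm hpb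
  have h1 : IsPullback (G ◁ pr) (snd G X') (snd G X) pr := isPullback_tensorLeft pr
  have h2 := h1.paste_vert hpb
  rw [hi, hinv]
  exact h2

/-- Translations lift to the base change. -/
theorem exists_translate_baseChange (hi : GIT.IsInvariant a φ) (ho : Function.Surjective (GIT.PsiY a φ hi).base)
    (hpb : IsPullback pr φ' φ g) (a' : AlgGrp.Action G X') (heq : a'.act ≫ pr = (G ◁ pr) ≫ a.act)
    (hinv : GIT.IsInvariant a' φ') {P : Over S} (x x' : P ⟶ X') (h : x ≫ φ' = x' ≫ φ') (p : P.left) :
    ∃ (R : Over S) (rP : R ⟶ P) (w : R ⟶ G ⊗ X') (r : R.left),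
      rP.left.base r = p ∧ w ≫ a'.act = rP ≫ x ∧ w ≫ snd G X' = rP ≫ x' := by
  obtain ⟨R, rP, w, r, hr, hwa, hws⟩ := exists_translate hi ho (x ≫ pr) (x' ≫ pr)
    (by rw [Category.assoc, hpb.w, Category.assoc, hpb.w, ← Category.assoc, h, Category.assoc]) p
  refine ⟨R, rP, lift (w ≫ fst G X) (rP ≫ x'), r, hr, ?_, lift_snd _ _⟩
  have hw : lift (w ≫ fst G X) (rP ≫ x') ≫ (G ◁ pr) = w := by
    apply CartesianMonoidalCategory.hom_ext
    · simp
    · simp [hws]
  apply hpb.hom_ext
  · rw [Category.assoc, heq, ← Category.assoc, hw, hwa, Category.assoc]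
  · rw [Category.assoc, hinv, ← Category.assoc, lift_snd, Category.assoc, Category.assoc, h]

theorem orbit_baseChange (hi : GIT.IsInvariant a φ) (ho : Function.Surjective (GIT.PsiY a φ hi).base)
    (hpb : IsPullback pr φ' φ g) (a' : AlgGrp.Action G X') (heq : a'.act ≫ pr = (G ◁ pr) ≫ a.act)
    (hinv : GIT.IsInvariant a' φ') : Function.Surjective (GIT.PsiY a' φ' hinv).base := by
  intro z
  let P : Over S := Over.mk (pullback.fst φ'.left φ'.left ≫ X'.hom)
  let x : P ⟶ X' := Over.homMk (pullback.fst φ'.left φ'.left) rfl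
  let x' : P ⟶ X' := Over.homMk (pullback.snd φ'.left φ'.left) (by
    show pullback.snd φ'.left φ'.left ≫ X'.hom = pullback.fst φ'.left φ'.left ≫ X'.hom
    rw [← Over.w φ', ← Category.assoc, ← pullback.condition, Category.assoc])
  obtain ⟨R, rP, w, r, hr, hwa, hws⟩ := exists_translate_baseChange hi ho hpb a' heq hinv x x'
    (Over.OverMorphism.ext pullback.condition) z
  refine ⟨w.left.base r, ?_⟩
  have e : w.left ≫ GIT.PsiY a' φ' hinv = rP.left := by
    apply pullback.hom_ext
    · rw [Category.assoc, GIT.PsiY, pullback.lift_fst]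
      exact congrArg CommaMorphism.left hwa
    · rw [Category.assoc, GIT.PsiY, pullback.lift_snd]
      exact congrArg CommaMorphism.left hws
  rw [← Scheme.Hom.comp_apply, e, hr]

/-- A base change of a map with orbit fibres is open, the action being universally open. -/
theorem isOpenMap_baseChange (hi : GIT.IsInvariant a φ) (ho : Function.Surjective (GIT.PsiY a φ hi).base)
    [UniversallyOpen a.act.left] (hpb : IsPullback pr φ' φ g)
    (hquot : IsQuotientMap φ'.left.base) : IsOpenMap φ'.left.base := by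
  obtain ⟨a', heq, hinv⟩ := exists_action hi hpb
  haveI : UniversallyOpen a'.act.left :=
    MorphismProperty.of_isPullback ((isPullback_act hi hpb a'.act heq hinv).map (Over.forget S))
      (by assumption)
  intro U hU
  have key : φ'.left.base ⁻¹' (φ'.left.base '' U) = a'.act.left.base '' ((snd G X').left.base ⁻¹' U) := by
    ext x
    constructor
    · rintro ⟨u, hu, hux⟩
      obtain ⟨w, hw⟩ := orbit_baseChange hi ho hpb a' heq hinv
        (Scheme.Pullback.exists_preimage_pullback (f := φ'.left) (g := φ'.left) x u hux.symm).choose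
      obtain ⟨hz₁, hz₂⟩ :=
        (Scheme.Pullback.exists_preimage_pullback (f := φ'.left) (g := φ'.left) x u hux.symm).choose_spec
      refine ⟨w, ?_, ?_⟩
      · show (snd G X').left.base w ∈ U
        rw [show (snd G X').left.base w = u from by
          rw [← hz₂, ← hw, ← Scheme.Hom.comp_apply, GIT.PsiY, pullback.lift_snd]]
        exact hu
      · rw [← hz₁, ← hw, ← Scheme.Hom.comp_apply, GIT.PsiY, pullback.lift_fst]
    · rintro ⟨w, hw, rfl⟩
      exact ⟨_, hw, by rw [← Scheme.Hom.comp_apply, ← Scheme.Hom.comp_apply, hinv.left]⟩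
  rw [← hquot.isOpen_preimage, key]
  exact a'.act.left.isOpenMap _ (hU.preimage (snd G X').left.continuous)

theorem universallyOpen_act [UniversallyOpen G.hom] : UniversallyOpen a.act.left := by
  let Φ : G ⊗ X ⟶ G ⊗ X := lift (fst G X) a.act
  let Ψ : G ⊗ X ⟶ G ⊗ X := lift (fst G X) (lift ((fst G X)⁻¹) (snd G X) ≫ a.act)
  have hmul : ∀ (T : Over S) (p q : T ⟶ G) (x : T ⟶ X),
      lift p (lift q x ≫ a.act) ≫ a.act = lift (p * q) x ≫ a.act := by
    intro T p q x
    have h := congrArg (lift (lift p q) x ≫ ·) a.mul_act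
    simp only [← Category.assoc, lift_whiskerRight, lift_lift_associator_hom, lift_whiskerLeft] at h
    exact h.symm
  have hone : ∀ (T : Over S) (x : T ⟶ X), lift (1 : T ⟶ G) x ≫ a.act = x := by
    intro T x
    have h := congrArg (lift (toUnit T) x ≫ ·) a.one_act
    simp only [← Category.assoc, lift_whiskerRight] at h
    exact h.trans (lift_snd _ _)
  have h1 : Φ ≫ Ψ = 𝟙 _ := by
    apply CartesianMonoidalCategory.hom_ext
    · simp [Φ, Ψ]
    · simp only [Φ, Ψ, Category.assoc, lift_snd, Category.id_comp]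
      rw [← Category.assoc, comp_lift, GrpObj.comp_inv, lift_fst, lift_snd]
      have e := hmul _ (fst G X)⁻¹ (fst G X) (snd G X)
      rw [lift_fst_snd, Category.id_comp, inv_mul_cancel, hone] at e
      exact e
  have h2 : Ψ ≫ Φ = 𝟙 _ := by
    apply CartesianMonoidalCategory.hom_ext
    · simp [Φ, Ψ]
    · simp only [Φ, Category.assoc, lift_snd, Category.id_comp]
      simp only [Ψ]
      rw [hmul, mul_inv_cancel, hone]
  haveI : IsIso Φ := ⟨Ψ, h1, h2⟩
  haveI : IsIso Φ.left := inferInstanceAs (IsIso ((Over.forget S).map Φ))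
  haveI : UniversallyOpen (snd G X).left := inferInstanceAs (UniversallyOpen (pullback.snd G.hom X.hom))
  have : a.act.left = Φ.left ≫ (snd G X).left := by rw [← Over.comp_left, lift_snd]
  rw [this]
  infer_instance

theorem universallyOpen (h : GIT.IsGeomQuot a φ) [UniversallyOpen G.hom] : UniversallyOpen φ.left := by
  haveI := universallyOpen_act (a := a)
  refine ⟨fun {X₁ Y₁} i₁ i₂ f' hsq => ?_⟩
  let Y' : Over S := Over.mk (i₂ ≫ Y.hom)
  let X' : Over S := Over.mk (f' ≫ Y'.hom)
  let φ' : X' ⟶ Y' := Over.homMk f' rfl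
  let g : Y' ⟶ Y := Over.homMk i₂ rfl
  let pr : X' ⟶ X := Over.homMk i₁ (by
    show i₁ ≫ X.hom = f' ≫ i₂ ≫ Y.hom
    rw [← Category.assoc, hsq.w, Category.assoc, Over.w])
  have hpb : IsPullback pr φ' φ g := IsPullback.of_map (Over.forget S) (Over.OverMorphism.ext hsq.w.symm) hsq.flip
  exact isOpenMap_baseChange h.inv h.orbit hpb (h.subm i₁ i₂ f' hsq)

end Groth.Agent.GITQuot
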