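import Mathlib.AlgebraicGeometry.ResidueField
import Mathlib.AlgebraicGeometry.Morphisms.Separated

/-!
# Points over a rational point
-/

universe u

open CategoryTheory CategoryTheory.Limits AlgebraicGeometry Topology

namespace Groth.Agent.GITQuot

/-- A field-valued point at `w` factors through the residue field of `w`. -/
theorem exists_factor {W : Scheme.{u}} {K : Type u} [Field K] (v : Spec (CommRingCat.of K) ⟶ W) {w : W}
    (hw : v.base (IsLocalRing.closedPoint K) = w) :
    ∃ g : W.residueField w ⟶ CommRingCat.of K, v = Spec.map g ≫ W.fromSpecResidueField w := by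
  subst hw
  exact ⟨_, (Scheme.descResidueField_stalkClosedPointTo_fromSpecResidueField (CommRingCat.of K) W v).symm⟩

/-- A field-valued point lying at the image of a section over a field is the section at its projection. -/
theorem eq_section_of_base_eq {W : Scheme.{u}} {Ω K : Type u} [Field Ω] [Field K]
    (q : W ⟶ Spec (CommRingCat.of Ω)) (s : Spec (CommRingCat.of Ω) ⟶ W) (hs : s ≫ q = 𝟙 _)
    (v : Spec (CommRingCat.of K) ⟶ W)
    (hv : v.base (IsLocalRing.closedPoint K) = s.base (IsLocalRing.closedPoint Ω)) : v ≫ q ≫ s = v := by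
  obtain ⟨g, hg⟩ := exists_factor v hv
  obtain ⟨ρ, hρ⟩ := exists_factor s rfl
  obtain ⟨σ, hσ⟩ := Spec.map_surjective (W.fromSpecResidueField (s.base (IsLocalRing.closedPoint Ω)) ≫ q)
  have h1 : σ ≫ ρ = 𝟙 _ := Spec.map_injective (by
    rw [Spec.map_comp, Spec.map_id, hσ, ← Category.assoc, ← hρ, hs])
  have h2 : ρ ≫ σ = 𝟙 _ := CommRingCat.hom_ext (RingHom.ext fun x => ρ.hom.injective (by
    show ρ.hom (σ.hom (ρ.hom x)) = ρ.hom x
    exact congrArg (fun T => T.hom (ρ.hom x)) h1))
  have h3 : W.fromSpecResidueField (s.base (IsLocalRing.closedPoint Ω)) ≫ q ≫ s =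
      W.fromSpecResidueField (s.base (IsLocalRing.closedPoint Ω)) := by
    refine (congrArg (fun T => W.fromSpecResidueField _ ≫ q ≫ T) hρ).trans ?_
    rw [← Category.assoc, ← hσ, ← Category.assoc, ← Spec.map_comp, h2, Spec.map_id, Category.id_comp]
  conv_lhs => rw [hg, Category.assoc, h3, ← hg]

/-- A rational point over a field is closed. -/
theorem isClosed_section_point {W : Scheme.{u}} {Ω : Type u} [Field Ω]
    (q : W ⟶ Spec (CommRingCat.of Ω)) (s : Spec (CommRingCat.of Ω) ⟶ W) (hs : s ≫ q = 𝟙 _) :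
    IsClosed (Set.range s.base) := by
  refine (TopologicalSpace.IsOpenCover.isClosed_iff_coe_preimage
    (U := fun V : W.affineOpens => (V : W.Opens)) (TopologicalSpace.IsOpenCover.mk (iSup_affineOpens_eq_top W))).mpr
    fun V => ?_
  by_cases h : s.base (IsLocalRing.closedPoint Ω) ∈ (V : W.Opens)
  · haveI : IsAffine (V : W.Opens).toScheme := V.2
    have hle : Set.range s.base ⊆ Set.range (V : W.Opens).ι.base := by
      rw [Scheme.Opens.range_ι]
      rintro _ ⟨p, rfl⟩
      rwa [Subsingleton.elim p (IsLocalRing.closedPoint Ω)]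
    let s' := IsOpenImmersion.lift (V : W.Opens).ι s hle
    have hs' : s' ≫ ((V : W.Opens).ι ≫ q) = 𝟙 _ := by rw [← Category.assoc, IsOpenImmersion.lift_fac, hs]
    haveI : IsClosedImmersion (s' ≫ ((V : W.Opens).ι ≫ q)) := by rw [hs']; infer_instance
    haveI : IsClosedImmersion s' := IsClosedImmersion.of_comp s' ((V : W.Opens).ι ≫ q)
    suffices e : (Subtype.val ⁻¹' Set.range s.base : Set (V : W.Opens).toScheme) = Set.range s'.base from
      Eq.mpr (congrArg IsClosed e) s'.isClosedEmbedding.isClosed_range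
    refine Set.ext fun p => ⟨?_, ?_⟩
    · rintro ⟨t, ht⟩
      exact ⟨t, Subtype.ext ((congrArg (fun T => T.base t) (IsOpenImmersion.lift_fac (V : W.Opens).ι s hle)).trans ht)⟩
    · rintro ⟨t, rfl⟩
      exact ⟨t, (congrArg (fun T => T.base t) (IsOpenImmersion.lift_fac (V : W.Opens).ι s hle)).symm⟩
  · convert isClosed_empty using 1
    refine Set.eq_empty_of_forall_notMem ?_
    rintro p ⟨t, ht⟩
    rw [Subsingleton.elim t (IsLocalRing.closedPoint Ω)] at ht
    exact h (ht ▸ p.2)

end Groth.Agent.GITQuot
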