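import Groth.Agent.GITQuot.Geom
import Groth.Agent.GITQuot.Point

/-!
# Orbits of geometric quotients
-/

universe u

open CategoryTheory CategoryTheory.Limits MonoidalCategory CartesianMonoidalCategory AlgebraicGeometry Topology

namespace Groth.Agent.GITQuot

variable {S : Scheme.{u}} {G X Y : Over S} [GrpObj G] {a : AlgGrp.Action G X} {φ : X ⟶ Y}

/-- Two points of `X` with equal images in `Y` are translates of each other after an extension. -/
theorem exists_translate (hi : GIT.IsInvariant a φ) (ho : Function.Surjective (GIT.PsiY a φ hi).base) {P : Over S}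
    (x x' : P ⟶ X) (h : x ≫ φ = x' ≫ φ) (p : P.left) :
    ∃ (R : Over S) (rP : R ⟶ P) (w : R ⟶ G ⊗ X) (r : R.left),
      rP.left.base r = p ∧ w ≫ a.act = rP ≫ x ∧ w ≫ snd G X = rP ≫ x' := by
  let π : P.left ⟶ pullback φ.left φ.left := pullback.lift x.left x'.left (congrArg CommaMorphism.left h)
  obtain ⟨w₀, hw₀⟩ := ho (π.base p)
  obtain ⟨r, hr₁, hr₂⟩ := Scheme.Pullback.exists_preimage_pullback (f := GIT.PsiY a φ hi) (g := π) w₀ p hw₀
  let Q := pullback (GIT.PsiY a φ hi) π
  have hA : pullback.fst (GIT.PsiY a φ hi) π ≫ a.act.left = pullback.snd _ π ≫ x.left := by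
    have e1 : GIT.PsiY a φ hi ≫ pullback.fst φ.left φ.left = a.act.left := pullback.lift_fst _ _ _
    have e2 : π ≫ pullback.fst φ.left φ.left = x.left := pullback.lift_fst _ _ _
    rw [← e1, ← e2, ← Category.assoc, ← Category.assoc, pullback.condition]
  have hB : pullback.fst (GIT.PsiY a φ hi) π ≫ (snd G X).left = pullback.snd _ π ≫ x'.left := by
    have e1 : GIT.PsiY a φ hi ≫ pullback.snd φ.left φ.left = (snd G X).left := pullback.lift_snd _ _ _
    have e2 : π ≫ pullback.snd φ.left φ.left = x'.left := pullback.lift_snd _ _ _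
    rw [← e1, ← e2, ← Category.assoc, ← Category.assoc, pullback.condition]
  let R : Over S := Over.mk (pullback.snd (GIT.PsiY a φ hi) π ≫ P.hom)
  let w : R ⟶ G ⊗ X := Over.homMk (pullback.fst (GIT.PsiY a φ hi) π) (by
    show pullback.fst (GIT.PsiY a φ hi) π ≫ (G ⊗ X).hom = pullback.snd _ π ≫ P.hom
    rw [← Over.w a.act, ← Category.assoc, hA, Category.assoc, Over.w])
  let rP : R ⟶ P := Over.homMk (pullback.snd (GIT.PsiY a φ hi) π) rfl
  exact ⟨R, rP, w, r, hr₂, Over.OverMorphism.ext hA, Over.OverMorphism.ext hB⟩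

theorem psi_comp {T : Over S} (hi : GIT.IsInvariant a φ) (f : T ⟶ X) :
    GIT.psi a f ≫ (φ ▷ T) = snd G T ≫ lift (f ≫ φ) (𝟙 T) := by
  apply CartesianMonoidalCategory.hom_ext
  · simp only [GIT.psi, Category.assoc, whiskerRight_fst, lift_fst, lift_fst_assoc]
    rw [hi, ← Category.assoc, whiskerLeft_snd, Category.assoc]
  · simp [GIT.psi]

theorem mem_range_psi (hi : GIT.IsInvariant a φ) (ho : Function.Surjective (GIT.PsiY a φ hi).base)
    {T P : Over S} (f : T ⟶ X) (z : P ⟶ X ⊗ T) (hz : z ≫ fst X T ≫ φ = z ≫ snd X T ≫ f ≫ φ) (p : P.left) :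
    z.left.base p ∈ Set.range (GIT.psi a f).left.base := by
  obtain ⟨R, rP, w, r, hr, hwa, hws⟩ := exists_translate hi ho (z ≫ fst X T) (z ≫ snd X T ≫ f)
    (by simpa using hz) p
  have e : lift (w ≫ fst G X) (rP ≫ z ≫ snd X T) ≫ GIT.psi a f = rP ≫ z := by
    have hw : lift (w ≫ fst G X) (rP ≫ z ≫ snd X T) ≫ (G ◁ f) = w := by
      apply CartesianMonoidalCategory.hom_ext
      · simp
      · simp [hws]
    apply CartesianMonoidalCategory.hom_ext
    · rw [Category.assoc, GIT.psi, lift_fst, ← Category.assoc, hw, hwa, Category.assoc]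
    · simp [GIT.psi]
  refine ⟨(lift (w ≫ fst G X) (rP ≫ z ≫ snd X T)).left.base r, ?_⟩
  rw [← Scheme.Hom.comp_apply, ← Over.comp_left, e, Over.comp_left, Scheme.Hom.comp_apply, hr]

theorem isClosed_range_psi_of_orbit (hi : GIT.IsInvariant a φ) (ho : Function.Surjective (GIT.PsiY a φ hi).base)
    {Ω : Type u} [Field Ω] [IsAlgClosed Ω] {T : Over S} (e : T.left ≅ Spec (CommRingCat.of Ω)) (f : T ⟶ X) :
    IsClosed (Set.range (GIT.psi a f).left.base) := by
  let q : (Y ⊗ T).left ⟶ Spec (CommRingCat.of Ω) := (snd Y T).left ≫ e.hom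
  let s : Spec (CommRingCat.of Ω) ⟶ (Y ⊗ T).left := e.inv ≫ (lift (f ≫ φ) (𝟙 T)).left
  have hs : s ≫ q = 𝟙 _ := by
    show (e.inv ≫ _) ≫ (_ ≫ e.hom) = _
    rw [Category.assoc, ← Category.assoc (lift (f ≫ φ) (𝟙 T)).left, ← Over.comp_left, lift_snd]
    simp
  have key : Set.range (GIT.psi a f).left.base = (φ ▷ T).left.base ⁻¹' Set.range s.base := by
    ext z
    constructor
    · rintro ⟨p, rfl⟩
      refine ⟨e.hom.base ((snd G T).left.base p), ?_⟩
      rw [← Scheme.Hom.comp_apply, ← Scheme.Hom.comp_apply, ← Scheme.Hom.comp_apply]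
      refine congrArg (fun U : (G ⊗ T).left ⟶ (Y ⊗ T).left => U.base p) ?_
      rw [← Over.comp_left, psi_comp hi f, Over.comp_left]
      simp [s]
    · rintro ⟨t, ht⟩
      let κ : Type u := (X ⊗ T).left.residueField z
      let i : Spec (CommRingCat.of κ) ⟶ (X ⊗ T).left := (X ⊗ T).left.fromSpecResidueField z
      let P : Over S := Over.mk (i ≫ (X ⊗ T).hom)
      let zt : P ⟶ X ⊗ T := Over.homMk i rfl
      have hib : i.base (IsLocalRing.closedPoint κ) = z := Scheme.fromSpecResidueField_apply _ _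
      have hv := eq_section_of_base_eq q s hs (i ≫ (φ ▷ T).left) ((congrArg (φ ▷ T).left.base hib).trans
        (ht.symm.trans (congrArg s.base (Subsingleton.elim t (IsLocalRing.closedPoint Ω)))))
      have hzt : zt ≫ (φ ▷ T) = zt ≫ snd X T ≫ lift (f ≫ φ) (𝟙 T) := by
        refine Over.OverMorphism.ext ?_
        show i ≫ (φ ▷ T).left = i ≫ (snd X T ≫ lift (f ≫ φ) (𝟙 T)).left
        conv_lhs => rw [← hv]
        have : (φ ▷ T).left ≫ (snd Y T).left = (snd X T).left := by rw [← Over.comp_left, whiskerRight_snd]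
        simp only [q, s, Category.assoc, Over.comp_left, Iso.hom_inv_id_assoc]
        rw [← Category.assoc (φ ▷ T).left, this]
      have hz : zt ≫ fst X T ≫ φ = zt ≫ snd X T ≫ f ≫ φ := by
        have := congrArg (fun U => U ≫ fst Y T) hzt
        simpa using this
      have := mem_range_psi hi ho f zt hz (IsLocalRing.closedPoint κ)
      rwa [show zt.left.base (IsLocalRing.closedPoint κ) = z from hib] at this
  rw [key]
  exact (isClosed_section_point q s hs).preimage (φ ▷ T).left.continuous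

theorem isClosedAction (h : GIT.IsGeomQuot a φ) : GIT.IsClosedAction a :=
  fun _ _ _ _ e f => isClosed_range_psi_of_orbit h.inv h.orbit e f

theorem isPullback_whiskerRight {Z : Over S} :
    IsPullback (fst X Z).left (φ ▷ Z).left φ.left (fst Y Z).left := by
  have hB : IsPullback (fst Y Z).left (snd Y Z).left Y.hom Z.hom := IsPullback.of_hasPullback Y.hom Z.hom
  have hA : IsPullback (fst X Z).left (snd X Z).left X.hom Z.hom := IsPullback.of_hasPullback X.hom Z.hom
  refine IsPullback.of_bot ?_ ?_ hB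
  · have e1 : (φ ▷ Z).left ≫ (snd Y Z).left = (snd X Z).left := by rw [← Over.comp_left, whiskerRight_snd]
    rw [e1, Over.w]
    exact hA
  · rw [← Over.comp_left, ← Over.comp_left, whiskerRight_fst]

theorem isPullback_whiskerLeft {Z : Over S} :
    IsPullback (snd Z X).left (Z ◁ φ).left φ.left (snd Z Y).left := by
  have hB : IsPullback (snd Z Y).left (fst Z Y).left Y.hom Z.hom := (IsPullback.of_hasPullback Z.hom Y.hom).flip
  have hA : IsPullback (snd Z X).left (fst Z X).left X.hom Z.hom := (IsPullback.of_hasPullback Z.hom X.hom).flip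
  refine IsPullback.of_bot ?_ ?_ hB
  · have e1 : (Z ◁ φ).left ≫ (fst Z Y).left = (fst Z X).left := by rw [← Over.comp_left, whiskerLeft_fst]
    rw [e1, Over.w]
    exact hA
  · rw [← Over.comp_left, ← Over.comp_left, whiskerLeft_snd]

theorem isSeparated_iff_isClosed (h : GIT.IsGeomQuot a φ) :
    IsSeparated Y.hom ↔ IsClosed (Set.range (GIT.psi a (𝟙 X)).left.base) := by
  have hq : IsQuotientMap ((φ ▷ X) ≫ (Y ◁ φ)).left.base := by
    have h1 : IsQuotientMap (φ ▷ X).left.base := h.subm _ _ _ isPullback_whiskerRight.flip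
    have h2 : IsQuotientMap (Y ◁ φ).left.base := h.subm _ _ _ isPullback_whiskerLeft.flip
    exact h2.comp h1
  let Δ : Y ⟶ Y ⊗ Y := lift (𝟙 Y) (𝟙 Y)
  have hΔ : Δ.left = pullback.diagonal Y.hom := by
    apply pullback.hom_ext
    · exact (congrArg CommaMorphism.left (lift_fst (𝟙 Y) (𝟙 Y))).trans (pullback.diagonal_fst _).symm
    · exact (congrArg CommaMorphism.left (lift_snd (𝟙 Y) (𝟙 Y))).trans (pullback.diagonal_snd _).symm
  have key : Set.range (GIT.psi a (𝟙 X)).left.base = ((φ ▷ X) ≫ (Y ◁ φ)).left.base ⁻¹' Set.range Δ.left.base := by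
    ext z
    constructor
    · rintro ⟨p, rfl⟩
      refine ⟨((snd G X) ≫ φ).left.base p, ?_⟩
      show (((snd G X) ≫ φ) ≫ Δ).left.base p = (GIT.psi a (𝟙 X) ≫ (φ ▷ X) ≫ (Y ◁ φ)).left.base p
      refine congrArg (fun U : G ⊗ X ⟶ Y ⊗ Y => U.left.base p) ?_
      show (snd G X ≫ φ) ≫ Δ = GIT.psi a (𝟙 X) ≫ (φ ▷ X) ≫ (Y ◁ φ)
      rw [← Category.assoc (GIT.psi a (𝟙 X)), psi_comp h.inv (𝟙 X)]
      apply CartesianMonoidalCategory.hom_ext <;> simp [Δ]
    · rintro ⟨y, hy⟩
      let M := ((φ ▷ X) ≫ (Y ◁ φ)).left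
      obtain ⟨r, hr₁, hr₂⟩ := Scheme.Pullback.exists_preimage_pullback (f := M) (g := Δ.left) z y hy.symm
      let P : Over S := Over.mk (pullback.fst M Δ.left ≫ (X ⊗ X).hom)
      let z₁ : P ⟶ X ⊗ X := Over.homMk (pullback.fst M Δ.left) rfl
      let z₂ : P ⟶ Y := Over.homMk (pullback.snd M Δ.left) (by
        show pullback.snd M Δ.left ≫ Y.hom = pullback.fst M Δ.left ≫ (X ⊗ X).hom
        rw [← Over.w Δ, ← Category.assoc, ← pullback.condition, Category.assoc, Over.w])
      have hc : z₁ ≫ (φ ▷ X) ≫ (Y ◁ φ) = z₂ ≫ Δ := Over.OverMorphism.ext pullback.condition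
      have hz : z₁ ≫ fst X X ≫ φ = z₁ ≫ snd X X ≫ 𝟙 X ≫ φ := by
        have e₁ := congrArg (fun U => U ≫ fst Y Y) hc
        have e₂ := congrArg (fun U => U ≫ snd Y Y) hc
        simp [Δ] at e₁ e₂ ⊢
        rw [e₁, e₂]
      have := mem_range_psi h.inv h.orbit (𝟙 X) z₁ hz r
      rwa [show z₁.left.base r = z from hr₁] at this
  rw [key, hq.isClosed_preimage]
  constructor
  · intro hsep
    rw [hΔ]
    exact (pullback.diagonal Y.hom).isClosedEmbedding.isClosed_range
  · intro hc
    rw [hΔ] at hc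
    haveI : IsClosedImmersion (pullback.diagonal Y.hom) := .of_isPreimmersion _ hc
    exact ⟨inferInstance⟩

end Groth.Agent.GITQuot
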