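import Groth.Agent.GITQuot.Func
import Groth.Agent.GITQuot.Orbit
import Groth.Agent.GrpdLib.QuotSheaf
import Groth.Prelude.Def_NonAbH2

/-!
# An fppf quotient sheaf of an action is a geometric quotient
-/

set_option backward.isDefEq.respectTransparency false
set_option backward.isDefEq.respectTransparency.types false

universe u

open CategoryTheory CategoryTheory.Limits MonoidalCategory CartesianMonoidalCategory MonObj AlgebraicGeometry
  Topology Opposite

namespace Groth.Agent.GITQuot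

variable {S : Scheme.{u}} {G X Y : Over S} [GrpObj G] {a : AlgGrp.Action G X} {q : X ⟶ Y}

theorem exists_cover {Z : Scheme.{u}} {s : Sieve Z} (hs : s ∈ Scheme.fppfTopology Z) :
    ∃ (I : Type u) (W : I → Scheme.{u}) (f : ∀ i, W i ⟶ Z), (∀ i, s (f i)) ∧ (∀ i, Flat (f i)) ∧
      (∀ i, LocallyOfFinitePresentation (f i)) ∧ ∀ z, ∃ i w, (f i).base w = z := by
  obtain ⟨R, ⟨hR₁, hR₂⟩, hle⟩ := Precoverage.mem_toGrothendieck_iff_of_isStableUnderComposition.mp hs
  have h : ∀ z : Z, ∃ (W : Scheme.{u}) (f : W ⟶ Z), R f ∧ z ∈ Set.range f.base := fun z => by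
    obtain ⟨_, _, ⟨hf⟩, hz⟩ := hR₁ z
    exact ⟨_, _, hf, hz⟩
  choose W f hf hz using h
  exact ⟨Z, W, f, fun i => hle _ (f i) (hf i), fun i => (hR₂ (hf i)).1, fun i => (hR₂ (hf i)).2,
    fun z => ⟨z, hz z⟩⟩

/-- The setoid of translates on the points of `X` with values in `T`. -/
def translateSetoid (a : AlgGrp.Action G X) (T : Over S) : Setoid (T ⟶ X) where
  r x y := ∃ g : T ⟶ G, lift g y ≫ a.act = x
  iseqv := by
    have one : ∀ x : T ⟶ X, lift (1 : T ⟶ G) x ≫ a.act = x := fun x => by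
      have := congrArg (fun t => lift (toUnit T) x ≫ t) a.one_act
      simpa [Hom.one_def] using this
    have mul : ∀ (g h : T ⟶ G) (x : T ⟶ X), lift g (lift h x ≫ a.act) ≫ a.act = lift (g * h) x ≫ a.act := by
      intro g h x
      have := congrArg (fun t => lift (lift g h) x ≫ t) a.mul_act
      simp only [lift_whiskerRight_assoc, lift_lift_associator_hom_assoc, lift_whiskerLeft_assoc] at this
      rw [← this]; rfl
    refine ⟨fun x => ⟨1, one x⟩, ?_, ?_⟩
    · rintro x y ⟨g, rfl⟩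
      exact ⟨g⁻¹, by rw [mul, inv_mul_cancel, one]⟩
    · rintro x y z ⟨g, rfl⟩ ⟨h, rfl⟩
      exact ⟨g * h, (mul g h z).symm⟩

/-- The presheaf of points of `X` up to translation. -/
def orbitPresheaf (a : AlgGrp.Action G X) : (Over S)ᵒᵖ ⥤ Type (u + 1) where
  obj T := ULift.{u + 1} (Quotient (translateSetoid a T.unop))
  map {T T'} f := TypeCat.ofHom fun z => ⟨Quotient.map (fun x => f.unop ≫ x)
    (by
      rintro x y ⟨g, rfl⟩
      exact ⟨f.unop ≫ g, by rw [← comp_lift_assoc]⟩) z.down⟩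
  map_id T := by
    ext ⟨z⟩
    induction z using Quotient.inductionOn with
    | h x => exact congrArg (Quotient.mk _) (Category.id_comp x)
  map_comp {T T' T''} f g := by
    ext ⟨z⟩
    induction z using Quotient.inductionOn with
    | h x => exact congrArg (Quotient.mk _) (Category.assoc g.unop f.unop x)

/-- The projection to the presheaf of orbits. -/
def orbitProj (a : AlgGrp.Action G X) : yoneda.obj X ⋙ uliftFunctor.{u + 1, u} ⟶ orbitPresheaf a where
  app T := TypeCat.ofHom fun z => ⟨Quotient.mk _ z.down⟩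
  naturality _ _ _ := rfl

theorem orbitProj_condition (a : AlgGrp.Action G X) :
    Functor.whiskerRight (yoneda.map a.act) uliftFunctor.{u + 1, u} ≫ orbitProj a =
      Functor.whiskerRight (yoneda.map (snd G X)) uliftFunctor.{u + 1, u} ≫ orbitProj a := by
  ext T ⟨w⟩
  refine congrArg ULift.up (Quotient.sound ⟨w ≫ fst G X, ?_⟩)
  show lift (w ≫ fst G X) (w ≫ snd G X) ≫ a.act = w ≫ a.act
  rw [← comp_lift, lift_fst_snd, Category.comp_id]

set_option linter.unusedVariables false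
variable (hq : QuotSh.IsQuotient Scheme.fppfPrecoverage a.act (snd G X) q)
include hq

theorem invariant_of_isQuotient : GIT.IsInvariant a q := hq.1

theorem exists_locally_lift : ∃ (I : Type u) (W : I → Scheme.{u}) (f : ∀ i, W i ⟶ Y.left), (∀ i, Flat (f i)) ∧
    (∀ i, LocallyOfFinitePresentation (f i)) ∧ (∀ y, ∃ i w, (f i).base w = y) ∧
    ∀ i, ∃ r : W i ⟶ X.left, r ≫ q.left = f i := by
  obtain ⟨w, hw⟩ := hq
  haveI : Epi (QuotSh.repMap Scheme.fppfPrecoverage q) := by
    have : QuotSh.quotπ Scheme.fppfPrecoverage a.act (snd G X) ≫ QuotSh.quotDesc _ q w = QuotSh.repMap _ q :=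
      coequalizer.π_desc _ _
    rw [← this]
    haveI : Epi (QuotSh.quotπ Scheme.fppfPrecoverage a.act (snd G X)) :=
      inferInstanceAs (Epi (coequalizer.π _ _))
    infer_instance
  have hls : Presheaf.IsLocallySurjective (QuotSh.J Scheme.fppfPrecoverage S)
      (Functor.whiskerRight (yoneda.map q) uliftFunctor.{u + 1, u}) :=
    (Presheaf.isLocallySurjective_presheafToSheaf_map_iff _ _).1
      ((Sheaf.isLocallySurjective_iff_epi _).2 inferInstance)
  have hmem := hls.imageSieve_mem (U := Y) ⟨𝟙 Y⟩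
  rw [GrothendieckTopology.mem_over_iff] at hmem
  obtain ⟨I, W, f, hf, hfl, hlfp, hsurj⟩ := exists_cover hmem
  refine ⟨I, W, f, hfl, hlfp, hsurj, fun i => ?_⟩
  obtain ⟨x, hx⟩ := (Sieve.overEquiv_iff _ _).1 (hf i)
  refine ⟨x.down.left, ?_⟩
  have := congrArg (fun z => (ULift.down z).left) hx
  simpa using this

theorem exists_locally_translate {Z : Over S} (g₁ g₂ : Z ⟶ X) (h : g₁ ≫ q = g₂ ≫ q) :
    ∃ (Z' : Scheme.{u}) (e : Z' ⟶ Z.left) (_ : Flat e) (_ : LocallyOfFinitePresentation e) (_ : Surjective e)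
      (w : Z' ⟶ (G ⊗ X).left), w ≫ a.act.left = e ≫ g₁.left ∧ w ≫ (snd G X).left = e ≫ g₂.left := by
  obtain ⟨w, hw⟩ := hq
  let K := Scheme.fppfPrecoverage.{u}
  let F := presheafToSheaf (QuotSh.J K S) (Type (u + 1))
  let d : QuotSh.quot K a.act (snd G X) ⟶ F.obj (orbitPresheaf a) := coequalizer.desc (F.map (orbitProj a)) (by
    rw [← F.map_comp, ← F.map_comp, orbitProj_condition])
  let ψ : QuotSh.rep K Y ⟶ F.obj (orbitPresheaf a) := inv (QuotSh.quotDesc K q w) ≫ d
  have hψ : QuotSh.repMap K q ≫ ψ = F.map (orbitProj a) := by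
    rw [← coequalizer.π_desc (f := QuotSh.repMap K a.act) (g := QuotSh.repMap K (snd G X)) (QuotSh.repMap K q)]
    · rw [Category.assoc]
      show coequalizer.π _ _ ≫ QuotSh.quotDesc K q w ≫ inv (QuotSh.quotDesc K q w) ≫ d = _
      rw [IsIso.hom_inv_id_assoc]
      exact coequalizer.π_desc _ _
  have key : toSheafify (QuotSh.J K S) (yoneda.obj X ⋙ uliftFunctor.{u + 1, u}) ≫ (F.map (orbitProj a)).hom =
      orbitProj a ≫ toSheafify (QuotSh.J K S) (orbitPresheaf a) := (toSheafify_naturality _ _).symm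
  have key' : toSheafify (QuotSh.J K S) (yoneda.obj X ⋙ uliftFunctor.{u + 1, u}) ≫ (F.map (orbitProj a)).hom =
      Functor.whiskerRight (yoneda.map q) uliftFunctor.{u + 1, u} ≫
        toSheafify (QuotSh.J K S) (yoneda.obj Y ⋙ uliftFunctor.{u + 1, u}) ≫ ψ.hom := by
    rw [← hψ]
    show toSheafify _ _ ≫ (QuotSh.repMap K q).hom ≫ ψ.hom = _
    rw [← Category.assoc]
    exact ((congrArg (· ≫ ψ.hom) (toSheafify_naturality _ _).symm)).trans (Category.assoc _ _ _)
  have heq : (toSheafify (QuotSh.J K S) (orbitPresheaf a)).app (op Z) ((orbitProj a).app (op Z) ⟨g₁⟩) =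
      (toSheafify (QuotSh.J K S) (orbitPresheaf a)).app (op Z) ((orbitProj a).app (op Z) ⟨g₂⟩) := by
    rw [← NatTrans.comp_app_apply, ← NatTrans.comp_app_apply, ← key, key']
    simp only [NatTrans.comp_app_apply]
    congr 2
    exact congrArg ULift.up h
  have hmem := Presheaf.equalizerSieve_mem (QuotSh.J K S) (toSheafify (QuotSh.J K S) (orbitPresheaf a)) _ _ heq
  rw [GrothendieckTopology.mem_over_iff] at hmem
  obtain ⟨I, W, f, hf, hfl, hlfp, hsurj⟩ := exists_cover hmem
  have hloc : ∀ i, ∃ v : W i ⟶ (G ⊗ X).left, v ≫ a.act.left = f i ≫ g₁.left ∧ v ≫ (snd G X).left = f i ≫ g₂.left := by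
    intro i
    have h' := (Sieve.overEquiv_iff _ _).1 (hf i)
    obtain ⟨g, hg⟩ := Quotient.exact (congrArg ULift.down h')
    refine ⟨(lift g (Over.homMk (f i) ≫ g₂)).left, ?_, ?_⟩
    · rw [← Over.comp_left]
      exact (congrArg CommaMorphism.left hg).trans rfl
    · rw [← Over.comp_left, lift_snd]; rfl
  choose v hv₁ hv₂ using hloc
  refine ⟨∐ W, Sigma.desc f, IsZariskiLocalAtSource.sigmaDesc hfl,
    IsZariskiLocalAtSource.sigmaDesc hlfp, ⟨fun z => ?_⟩, Sigma.desc v, ?_, ?_⟩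
  · obtain ⟨i, x, hx⟩ := hsurj z
    exact ⟨(Sigma.ι W i).base x, by rw [← Scheme.Hom.comp_apply, Sigma.ι_desc]; exact hx⟩
  · exact Sigma.hom_ext _ _ fun i => by rw [Sigma.ι_desc_assoc, Sigma.ι_desc_assoc, hv₁]
  · exact Sigma.hom_ext _ _ fun i => by rw [Sigma.ι_desc_assoc, Sigma.ι_desc_assoc, hv₂]

theorem isGeomQuot_of_isQuotient : GIT.IsGeomQuot a q := by
  obtain ⟨I, W, f, hfl, hlfp, hsurj, hlift⟩ := exists_locally_lift hq
  choose r hr using hlift
  have hi : GIT.IsInvariant a q := invariant_of_isQuotient hq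
  have htr : ∀ {Z : Scheme.{u}} (g₁ g₂ : Z ⟶ X.left), g₁ ≫ q.left = g₂ ≫ q.left →
      ∃ (Z' : Scheme.{u}) (e : Z' ⟶ Z) (_ : Flat e) (_ : LocallyOfFinitePresentation e) (_ : Surjective e)
        (w : Z' ⟶ (G ⊗ X).left), w ≫ a.act.left = e ≫ g₁ ∧ w ≫ (snd G X).left = e ≫ g₂ := by
    intro Z g₁ g₂ h
    have h₂ : g₂ ≫ X.hom = g₁ ≫ X.hom := by
      rw [← Over.w q, ← Category.assoc, ← h, Category.assoc]
    exact exists_locally_translate hq (Z := Over.mk (g₁ ≫ X.hom)) (Over.homMk g₁) (Over.homMk g₂ h₂)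
      (Over.OverMorphism.ext h)
  refine ⟨hi, fun y => ?_, fun p => ?_, ?_, fun U => ?_⟩
  · obtain ⟨i, w, hw⟩ := hsurj y
    exact ⟨(r i).base w, by rw [← hw, ← hr i]; rfl⟩
  · obtain ⟨Z', e, _, _, _, w, h₁, h₂⟩ := htr (pullback.fst q.left q.left) (pullback.snd _ _) pullback.condition
    obtain ⟨z, rfl⟩ := e.surjective p
    refine ⟨w.base z, ?_⟩
    rw [← Scheme.Hom.comp_apply]
    refine congrArg (fun g : Z' ⟶ pullback q.left q.left => g.base z) ?_
    apply pullback.hom_ext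
    · rw [Category.assoc, ← h₁]; exact congrArg (w ≫ ·) (pullback.lift_fst _ _ _)
    · rw [Category.assoc, ← h₂]; exact congrArg (w ≫ ·) (pullback.lift_snd _ _ _)
  · intro X' Y' i₁ i₂ q' hsq'
    have hsq := hsq'.flip
    have hloc : ∀ i, ∃ t : pullback i₂ (f i) ⟶ X', t ≫ q' = pullback.fst i₂ (f i) := fun i =>
      ⟨hsq.lift (pullback.snd i₂ (f i) ≫ r i) (pullback.fst i₂ (f i))
        (by rw [Category.assoc, hr i]; exact pullback.condition.symm), hsq.lift_snd _ _ _⟩
    choose t ht using hloc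
    have hjs : ∀ y : Y', ∃ i z, (pullback.fst i₂ (f i)).base z = y := fun y => by
      obtain ⟨i, w, hw⟩ := hsurj (i₂.base y)
      obtain ⟨z, hz, -⟩ := Scheme.Pullback.exists_preimage_pullback (f := i₂) (g := f i) y w hw.symm
      exact ⟨i, z, hz⟩
    refine isQuotientMap_iff_isClosed.mpr ⟨fun y => ?_, fun C => ⟨fun hC => hC.preimage q'.continuous, fun hC => ?_⟩⟩
    · obtain ⟨i, z, hz⟩ := hjs y
      exact ⟨(t i).base z, by rw [← hz, ← ht i]; rfl⟩
    · rw [← isOpen_compl_iff]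
      have hV : IsOpen (q'.base ⁻¹' Cᶜ) := hC.isOpen_compl
      generalize Cᶜ = V at hV ⊢
      have : V = ⋃ i, (pullback.fst i₂ (f i)).base '' ((t i).base ⁻¹' (q'.base ⁻¹' V)) := by
        ext y
        refine ⟨fun hy => ?_, ?_⟩
        · obtain ⟨i, z, hz⟩ := hjs y
          refine Set.mem_iUnion.2 ⟨i, z, ?_, hz⟩
          show q'.base ((t i).base z) ∈ V
          rw [← Scheme.Hom.comp_apply, ht i, hz]; exact hy
        · simp only [Set.mem_iUnion, Set.mem_image, Set.mem_preimage]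
          rintro ⟨i, z, hz, rfl⟩
          rwa [← Scheme.Hom.comp_apply, ht i] at hz
      rw [this]
      refine isOpen_iUnion fun i => ?_
      haveI := hfl i
      haveI := hlfp i
      exact (pullback.fst i₂ (f i)).isOpenMap _ (hV.preimage (t i).continuous)
  · haveI : EffectiveEpi (q.left ∣_ U) := by
      rw [← Sieve.effectiveEpimorphic_singleton, Presieve.EffectiveEpimorphic.iff_forall_isSheafFor_yoneda]
      intro Z
      refine (GrothendieckTopology.Subcanonical.isSheaf_of_isRepresentable (J := Scheme.fppfTopology) _).isSheafFor _ ?_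
      refine GrothendieckTopology.superset_covering _ ?_ (Precoverage.generate_mem_toGrothendieck
        (J := Scheme.fppfPrecoverage) (R := Presieve.ofArrows _ fun i => f i ∣_ U) ?_)
      · rw [Sieve.generate_le_iff]
        rintro _ _ ⟨i⟩
        have le : f i ⁻¹ᵁ U ≤ r i ⁻¹ᵁ (q.left ⁻¹ᵁ U) := fun x hx => by
          show q.left.base ((r i).base x) ∈ U
          rw [← Scheme.Hom.comp_apply, hr i]; exact hx
        refine ⟨_, (r i).resLE (q.left ⁻¹ᵁ U) (f i ⁻¹ᵁ U) le, _, Presieve.singleton_self _, ?_⟩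
        rw [← cancel_mono U.ι, Category.assoc, morphismRestrict_ι, Scheme.Hom.resLE_comp_ι_assoc, hr i,
          morphismRestrict_ι]
      · rw [Scheme.fppfPrecoverage, Scheme.ofArrows_mem_precoverage_iff]
        refine ⟨fun y => ?_, fun i => ⟨?_, ?_⟩⟩
        · obtain ⟨i, w, hw⟩ := hsurj y.1
          exact ⟨i, ⟨w, show (f i).base w ∈ U from hw ▸ y.2⟩, Subtype.ext (by simpa using hw)⟩
        · haveI := hfl i; infer_instance
        · haveI := hlfp i; exact IsZariskiLocalAtTarget.restrict (hlfp i) U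
    refine sections_of_effectiveEpi hi U fun g₁ g₂ h => ?_
    obtain ⟨Z', e, _, _, _, w, h₁, h₂⟩ := htr g₁ g₂ h
    exact ⟨Z', e, w, inferInstance, h₁, h₂⟩

end Groth.Agent.GITQuot
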