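import Groth.Agent.GITQuot.Basic

/-!
# Geometric quotients are categorical
-/

universe u

open CategoryTheory CategoryTheory.Limits MonoidalCategory CartesianMonoidalCategory AlgebraicGeometry Topology

namespace Groth.Agent.GITQuot

variable {S : Scheme.{u}} {G X Y : Over S} [GrpObj G] {a : AlgGrp.Action G X} {φ : X ⟶ Y}

theorem mem_saturated (h : GIT.IsGeomQuot a φ) {W : Set X.left}
    (hW : a.act.left.base ⁻¹' W = (snd G X).left.base ⁻¹' W) {x x' : X.left}
    (hxx : φ.left.base x = φ.left.base x') (hx : x ∈ W) : x' ∈ W := by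
  obtain ⟨z, hz₁, hz₂⟩ := Scheme.Pullback.exists_preimage_pullback (f := φ.left) (g := φ.left) x x' hxx
  obtain ⟨w, hw⟩ := h.orbit z
  have h1 : a.act.left.base w = x := by
    rw [← hz₁, ← hw, ← Scheme.Hom.comp_apply, GIT.PsiY, pullback.lift_fst]
  have h2 : (snd G X).left.base w = x' := by
    rw [← hz₂, ← hw, ← Scheme.Hom.comp_apply, GIT.PsiY, pullback.lift_snd]
  have : w ∈ a.act.left.base ⁻¹' W := show _ ∈ W from h1 ▸ hx
  rw [hW, Set.mem_preimage, h2] at this
  exact this

theorem isQuotientMap (h : GIT.IsGeomQuot a φ) : IsQuotientMap φ.left.base :=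
  MorphismProperty.universally_le (P := topologically @IsQuotientMap) φ.left h.subm

theorem isCatQuot (h : GIT.IsGeomQuot a φ) : GIT.IsCatQuot a φ := by
  refine isCatQuot_of_cover h.inv h.surj h.sections fun J W hW hcov y => ?_
  obtain ⟨x, rfl⟩ := h.surj y
  obtain ⟨i, hi⟩ := hcov x
  have hsat : φ.left.base ⁻¹' (φ.left.base '' (W i : Set X.left)) = (W i : Set X.left) :=
    Set.Subset.antisymm (fun x' ⟨x₀, hx₀, e⟩ => mem_saturated h
      (congrArg (fun O : (G ⊗ X).left.Opens => (O : Set (G ⊗ X).left)) (hW i)) e hx₀) (Set.subset_preimage_image _ _)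
  let U : Y.left.Opens := ⟨φ.left.base '' (W i : Set X.left),
    (isQuotientMap h).isOpen_preimage.mp (hsat.symm ▸ (W i).isOpen)⟩
  exact ⟨i, U, ⟨x, hi, rfl⟩, fun x' hx' => hsat.le hx'⟩

/-- A surjectivity criterion: dense image with injective functions and closed image. -/
theorem surjective_of_isClosed_range {X Y : Scheme.{u}} (f : X ⟶ Y) (hinj : ∀ U, Function.Injective (f.app U))
    (hc : IsClosed (Set.range f.base)) : Function.Surjective f.base := by
  intro y
  by_contra hy
  let U : Y.Opens := ⟨_, hc.isOpen_compl⟩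
  have hU : f ⁻¹ᵁ U = ⊥ := TopologicalSpace.Opens.ext (Set.eq_empty_of_forall_notMem fun x hx => hx ⟨x, rfl⟩)
  haveI : Subsingleton Γ(X, f ⁻¹ᵁ U) := by rw [hU]; exact CommRingCat.subsingleton_of_isTerminal X.sheaf.isTerminalOfEmpty
  haveI : Subsingleton Γ(Y, U) := (hinj U).subsingleton
  haveI : Nontrivial Γ(Y, U) := (Y.presheaf.germ U y hy).hom.domain_nontrivial
  exact not_subsingleton Γ(Y, U) inferInstance

theorem isCatQuot_of_closed_images (hi : GIT.IsInvariant a φ)
    (hii : ∀ U : Y.left.Opens,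
      Function.Injective (φ.left.app U) ∧ Set.range (φ.left.app U) = {f | GIT.IsInvSection a φ U f})
    (hiii : ∀ W : Set X.left, IsClosed W → a.act.left.base '' ((snd G X).left.base ⁻¹' W) ⊆ W →
      IsClosed (φ.left.base '' W))
    (hiii' : ∀ (J : Type u) (W : J → Set X.left),
      (∀ i, IsClosed (W i) ∧ a.act.left.base '' ((snd G X).left.base ⁻¹' W i) ⊆ W i) →
      φ.left.base '' (⋂ i, W i) = ⋂ i, φ.left.base '' W i) :
    GIT.IsCatQuot a φ ∧ IsQuotientMap φ.left.base := by
  have hsurj : Function.Surjective φ.left.base := surjective_of_isClosed_range _ (fun U => (hii U).1) (by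
    rw [← Set.image_univ]
    exact hiii _ isClosed_univ (Set.subset_univ _))
  refine ⟨isCatQuot_of_cover hi hsurj hii fun J W hW hcov y => ?_, isQuotientMap_iff_isClosed.mpr ⟨hsurj, fun C => ?_⟩⟩
  · have hinv : ∀ i, a.act.left.base '' ((snd G X).left.base ⁻¹' (W i : Set X.left)ᶜ) ⊆ (W i : Set X.left)ᶜ := by
      rintro i _ ⟨w, hw, rfl⟩ h
      exact hw ((congrArg (fun O : (G ⊗ X).left.Opens => (O : Set (G ⊗ X).left)) (hW i)).le h)
    have h : (⋂ i, φ.left.base '' (W i : Set X.left)ᶜ) = ∅ := by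
      rw [← hiii' J _ fun i => ⟨(W i).isOpen.isClosed_compl, hinv i⟩, Set.image_eq_empty]
      exact Set.eq_empty_of_forall_notMem fun x hx => (hcov x).elim fun i hi => Set.mem_iInter.mp hx i hi
    obtain ⟨i, hi'⟩ : ∃ i, y ∉ φ.left.base '' (W i : Set X.left)ᶜ := by
      by_contra hall; push Not at hall
      exact (Set.mem_iInter.mpr hall : y ∈ ⋂ i, φ.left.base '' (W i : Set X.left)ᶜ) |> h.le
    refine ⟨i, ⟨_, (hiii _ (W i).isOpen.isClosed_compl (hinv i)).isOpen_compl⟩, hi', fun x hx => ?_⟩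
    by_contra hxW
    exact hx ⟨x, hxW, rfl⟩
  · refine ⟨fun hC => hC.preimage φ.left.continuous, fun hC => ?_⟩
    have h := hiii _ hC (by
      rintro _ ⟨w, hw, rfl⟩
      show φ.left.base (a.act.left.base w) ∈ C
      rw [← Scheme.Hom.comp_apply, hi.left, Scheme.Hom.comp_apply]
      exact hw)
    rwa [Set.image_preimage_eq _ hsurj] at h

end Groth.Agent.GITQuot
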