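import Groth.Agent.GITQuot.BaseChange

/-!
# Universal categorical quotients
-/

universe u

open CategoryTheory CategoryTheory.Limits MonoidalCategory CartesianMonoidalCategory MonObj AlgebraicGeometry Topology

namespace Groth.Agent.GITQuot

variable {S : Scheme.{u}} {G X Y : Over S} [GrpObj G] {a : AlgGrp.Action G X} {φ : X ⟶ Y}

theorem isUnivCatQuot_baseChange {X' Y' : Over S} {pr : X' ⟶ X} {φ' : X' ⟶ Y'} {g : Y' ⟶ Y}
    (h : GIT.IsUnivCatQuot a φ) (hpb : IsPullback pr φ' φ g) (a' : AlgGrp.Action G X')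
    (heq : a'.act ≫ pr = (G ◁ pr) ≫ a.act) (hinv : GIT.IsInvariant a' φ') : GIT.IsUnivCatQuot a' φ' := by
  refine ⟨h.2 pr φ' g trivial hpb a' heq hinv, fun X'' Y'' pr' φ'' g' _ hpb' a'' heq' hinv'' => ?_⟩
  refine h.2 (pr' ≫ pr) φ'' (g' ≫ g) trivial (hpb'.paste_horiz hpb) a'' ?_ hinv''
  rw [← Category.assoc, heq', Category.assoc, heq, ← Category.assoc, ← MonoidalCategory.whiskerLeft_comp]

theorem surjective_of_isUnivCatQuot (h : GIT.IsUnivCatQuot a φ) : Function.Surjective φ.left.base := by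
  intro y
  by_contra hy
  let Y' : Over S := Over.mk (Y.left.fromSpecResidueField y ≫ Y.hom)
  let g : Y' ⟶ Y := Over.homMk (Y.left.fromSpecResidueField y) rfl
  have hsq := IsPullback.of_hasPullback φ g
  obtain ⟨a', heq, hinv⟩ := exists_action h.1.1 hsq
  haveI hempty : IsEmpty (pullback φ g).left := ⟨fun x => hy ⟨(pullback.fst φ g).left.base x, by
    have e : (φ.left).base ((pullback.fst φ g).left.base x) = g.left.base ((pullback.snd φ g).left.base x) :=
      congrArg (fun T : pullback φ g ⟶ Y => T.left.base x) pullback.condition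
    exact e.trans (Scheme.fromSpecResidueField_apply _ _)⟩⟩
  haveI : IsEmpty (G ⊗ pullback φ g).left := ⟨fun w => hempty.false ((snd G (pullback φ g)).left.base w)⟩
  let Z : Over S := Over.mk (Scheme.emptyTo S)
  let ψ : pullback φ g ⟶ Z := Over.homMk (isInitialOfIsEmpty.to _) (isInitialOfIsEmpty.hom_ext _ _)
  obtain ⟨χ, -⟩ := (h.2 _ _ g trivial hsq a' heq hinv).2 Z ψ (Over.OverMorphism.ext (isInitialOfIsEmpty.hom_ext _ _))
  exact PEmpty.elim (χ.left.base (IsLocalRing.closedPoint (Y.left.residueField y)) :)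

theorem invariant_hat {U : Y.left.Opens} {f : Γ(X.left, φ.left ⁻¹ᵁ U)} (hf : GIT.IsInvSection a φ U f)
    {Z : Scheme.{u}} (w : Z ⟶ (G ⊗ X).left) (g₁ g₂ : Z ⟶ (φ.left ⁻¹ᵁ U).toScheme)
    (h₁ : g₁ ≫ (φ.left ⁻¹ᵁ U).ι = w ≫ a.act.left) (h₂ : g₂ ≫ (φ.left ⁻¹ᵁ U).ι = w ≫ (snd G X).left) :
    g₁ ≫ hat f = g₂ ≫ hat f := by
  let W := a.act.left ⁻¹ᵁ (φ.left ⁻¹ᵁ U) ⊓ (snd G X).left ⁻¹ᵁ (φ.left ⁻¹ᵁ U)
  have hwW : Set.range w.base ⊆ Set.range W.ι.base := by
    rintro _ ⟨z, rfl⟩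
    rw [Scheme.Opens.range_ι]
    refine ⟨?_, ?_⟩
    · show a.act.left.base (w.base z) ∈ φ.left ⁻¹ᵁ U
      rw [← Scheme.Hom.comp_apply, ← h₁]
      exact (g₁.base z).2
    · show (snd G X).left.base (w.base z) ∈ φ.left ⁻¹ᵁ U
      rw [← Scheme.Hom.comp_apply, ← h₂]
      exact (g₂.base z).2
  let w' := IsOpenImmersion.lift W.ι w hwW
  have hw' : w' ≫ W.ι = w := IsOpenImmersion.lift_fac _ _ _
  have key : ∀ (p : (G ⊗ X).left ⟶ X.left) (hp : W ≤ p ⁻¹ᵁ (φ.left ⁻¹ᵁ U))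
      (g : Z ⟶ (φ.left ⁻¹ᵁ U).toScheme), g ≫ (φ.left ⁻¹ᵁ U).ι = w ≫ p →
      w' ≫ hat (p.appLE (φ.left ⁻¹ᵁ U) W hp f) = g ≫ hat f := by
    intro p hp g hg
    have : w' ≫ p.resLE (φ.left ⁻¹ᵁ U) W hp = g := by
      rw [← cancel_mono (φ.left ⁻¹ᵁ U).ι, Category.assoc, Scheme.Hom.resLE_comp_ι, ← Category.assoc, hw', hg]
    rw [← resLE_hat, ← Category.assoc, this]
  rw [← key a.act.left inf_le_left g₁ h₁, ← key (snd G X).left inf_le_right g₂ h₂]
  exact congrArg (fun s => w' ≫ hat s) hf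

theorem sections_of_isUnivCatQuot (h : GIT.IsUnivCatQuot a φ) (U : Y.left.Opens) :
    Function.Injective (φ.left.app U) ∧ Set.range (φ.left.app U) = {f | GIT.IsInvSection a φ U f} := by
  let V := φ.left ⁻¹ᵁ U
  let YU : Over S := Over.mk (U.ι ≫ Y.hom)
  let XU : Over S := Over.mk (V.ι ≫ X.hom)
  let φU : XU ⟶ YU := Over.homMk (φ.left ∣_ U) (by
    show φ.left ∣_ U ≫ U.ι ≫ Y.hom = V.ι ≫ X.hom
    rw [morphismRestrict_ι_assoc, Over.w])
  let j : XU ⟶ X := Over.homMk V.ι rfl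
  let g : YU ⟶ Y := Over.homMk U.ι rfl
  have hsq : IsPullback j φU φ g :=
    IsPullback.of_map (Over.forget S) (Over.OverMorphism.ext (morphismRestrict_ι φ.left U).symm)
      (isPullback_morphismRestrict φ.left U).flip
  obtain ⟨a', heq, hinv⟩ := exists_action h.1.1 hsq
  have hcat := h.2 j φU g trivial hsq a' heq hinv
  let A : Over S := Over.mk (prod.fst (X := S) (Y := Spec A1.{u}))
  refine ⟨fun s t hst => ?_, Set.Subset.antisymm ?_ fun f hf => ?_⟩
  · let χ : Γ(Y.left, U) → (YU ⟶ A) := fun s => Over.homMk (prod.lift YU.hom (hat s)) (prod.lift_fst _ _)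
    have hinvψ : ∀ s, GIT.IsInvariant a' (φU ≫ χ s) := fun s => by
      show a'.act ≫ φU ≫ χ s = snd G XU ≫ φU ≫ χ s
      rw [← Category.assoc, hinv, Category.assoc]
    have e : φU ≫ χ s = φU ≫ χ t := Over.OverMorphism.ext <| by
      apply prod.hom_ext
      · show (φU.left ≫ prod.lift YU.hom (hat s)) ≫ prod.fst = (φU.left ≫ prod.lift YU.hom (hat t)) ≫ prod.fst
        rw [Category.assoc, Category.assoc, prod.lift_fst, prod.lift_fst]
      · show (φ.left ∣_ U ≫ prod.lift YU.hom (hat s)) ≫ prod.snd = (φ.left ∣_ U ≫ prod.lift YU.hom (hat t)) ≫ prod.snd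
        rw [Category.assoc, Category.assoc, prod.lift_snd, prod.lift_snd, morphismRestrict_hat, morphismRestrict_hat,
          hst]
    obtain ⟨c, -, hc⟩ := hcat.2 A _ (hinvψ s)
    have e' := congrArg (fun T : YU ⟶ A => T.left ≫ prod.snd) ((hc _ rfl).trans (hc _ e.symm).symm)
    apply hat_injective
    exact (prod.lift_snd YU.hom (hat s)).symm.trans (e'.trans (prod.lift_snd YU.hom (hat t)))
  · rintro _ ⟨t, rfl⟩
    have h' := isInvSection_appLE (φ := φ) φ h.1.1 U U (le_refl (φ.left ⁻¹ᵁ U)) t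
    rwa [Scheme.Hom.appLE_eq_app] at h'
  · let ψ : XU ⟶ A := Over.homMk (prod.lift XU.hom (hat f)) (prod.lift_fst _ _)
    have hψ : GIT.IsInvariant a' ψ := by
      refine Over.OverMorphism.ext ?_
      apply prod.hom_ext
      · show (a'.act.left ≫ prod.lift XU.hom (hat f)) ≫ prod.fst = ((snd G XU).left ≫ prod.lift XU.hom (hat f)) ≫ prod.fst
        rw [Category.assoc, Category.assoc, prod.lift_fst, Over.w, Over.w]
      · show (a'.act.left ≫ prod.lift XU.hom (hat f)) ≫ prod.snd = ((snd G XU).left ≫ prod.lift XU.hom (hat f)) ≫ prod.snd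
        rw [Category.assoc, Category.assoc, prod.lift_snd]
        refine invariant_hat hf (G ◁ j).left _ _ ?_ ?_
        · exact congrArg CommaMorphism.left heq
        · exact congrArg CommaMorphism.left (whiskerLeft_snd G j).symm
    obtain ⟨c, hc, -⟩ := hcat.2 A ψ hψ
    obtain ⟨t, ht⟩ := hat_surjective (c.left ≫ prod.snd)
    refine ⟨t, hat_injective ?_⟩
    rw [← morphismRestrict_hat, ht, ← Category.assoc]
    have := congrArg (fun T : XU ⟶ A => T.left ≫ prod.snd) hc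
    exact this.trans (prod.lift_snd XU.hom (hat f))

end Groth.Agent.GITQuot
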