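import Groth.Prelude.Def_W4bk4git07Quot
import Mathlib.AlgebraicGeometry.Restrict
import Mathlib.AlgebraicGeometry.Gluing
import Mathlib.AlgebraicGeometry.AffineScheme
import Mathlib.AlgebraicGeometry.Morphisms.UnderlyingMap

/-!
# Invariant functions and categorical quotients
-/

universe u

open CategoryTheory CategoryTheory.Limits MonoidalCategory CartesianMonoidalCategory AlgebraicGeometry Topology

namespace Groth.Agent.GITQuot

theorem epi_of_surjective_of_app_injective {X Y : Scheme.{u}} (f : X ⟶ Y) (hf : Function.Surjective f.base)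
    (hinj : ∀ U, Function.Injective (f.app U)) : Epi f := by
  refine ⟨fun {Z} g g' h => ?_⟩
  have hb : g.base = g'.base := by
    refine TopCat.hom_ext (ContinuousMap.ext fun y => ?_)
    obtain ⟨x, rfl⟩ := hf y
    exact congrArg (fun T : X ⟶ Z => T.base x) h
  refine Scheme.Hom.ext hb fun U => ?_
  haveI : Mono (f.app (g' ⁻¹ᵁ U)) := ConcreteCategory.mono_of_injective _ (hinj _)
  rw [← cancel_mono (f.app (g' ⁻¹ᵁ U))]
  have := Scheme.Hom.congr_app h U
  simp only [Scheme.Hom.comp_app] at this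
  rw [Category.assoc, Scheme.Hom.naturality, reassoc_of% this]
  refine (Category.assoc _ _ _).trans ((congrArg ((g'.app U ≫ f.app (g' ⁻¹ᵁ U)) ≫ ·) ?_).trans (Category.comp_id _))
  exact (X.presheaf.map_comp _ _).symm.trans
    ((congrArg X.presheaf.map (Subsingleton.elim _ (𝟙 _))).trans (X.presheaf.map_id _))

theorem epi_morphismRestrict {X Y : Scheme.{u}} (f : X ⟶ Y) (hf : Function.Surjective f.base)
    (hinj : ∀ U, Function.Injective (f.app U)) (O : Y.Opens) : Epi (f ∣_ O) := by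
  refine epi_of_surjective_of_app_injective _ ?_ ?_
  · intro y
    obtain ⟨x, hx⟩ := hf y.1
    refine ⟨⟨x, show f.base x ∈ O from hx ▸ y.2⟩, Subtype.ext ?_⟩
    rw [morphismRestrict_base]
    exact hx
  · intro V
    rw [morphismRestrict_app]
    exact (ConcreteCategory.bijective_of_isIso (X.presheaf.map (eqToHom (image_morphismRestrict_preimage f O V)).op)).1.comp (hinj _)

theorem epi_pullback_snd {X Y P : Scheme.{u}} (f : X ⟶ Y) (hf : Function.Surjective f.base)
    (hinj : ∀ U, Function.Injective (f.app U)) (j : P ⟶ Y) [IsOpenImmersion j] : Epi (pullback.snd f j) := by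
  haveI := epi_morphismRestrict f hf hinj j.opensRange
  have sq : IsPullback (pullback.fst f j) (pullback.snd f j ≫ j.isoOpensRange.hom) f j.opensRange.ι :=
    (IsPullback.of_hasPullback f j).of_iso (Iso.refl _) (Iso.refl _) j.isoOpensRange (Iso.refl _)
      (by simp) (by simp) (by simp) (by simp)
  have sq' := (isPullback_morphismRestrict f j.opensRange).flip
  haveI : Epi (pullback.snd f j ≫ j.isoOpensRange.hom) := by
    rw [← IsPullback.isoIsPullback_hom_snd X _ sq sq']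
    infer_instance
  have : pullback.snd f j = (pullback.snd f j ≫ j.isoOpensRange.hom) ≫ j.isoOpensRange.inv := by simp
  rw [this]
  infer_instance

variable {S : Scheme.{u}} {G X Y : Over S} [GrpObj G] {a : AlgGrp.Action G X} {φ : X ⟶ Y}

theorem isInvSection_appLE {Z : Over S} (ψ : X ⟶ Z) (hψ : GIT.IsInvariant a ψ) (U : Y.left.Opens)
    (V : Z.left.Opens) (e : φ.left ⁻¹ᵁ U ≤ ψ.left ⁻¹ᵁ V) (t : Γ(Z.left, V)) :
    GIT.IsInvSection a φ U (ψ.left.appLE V (φ.left ⁻¹ᵁ U) e t) := by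
  show a.act.left.appLE _ _ _ (ψ.left.appLE V _ e t) = (snd G X).left.appLE _ _ _ (ψ.left.appLE V _ e t)
  have key : ∀ (f g : (G ⊗ X).left ⟶ Z.left) (W : (G ⊗ X).left.Opens) (hf : W ≤ f ⁻¹ᵁ V) (hg : W ≤ g ⁻¹ᵁ V),
      f = g → f.appLE V W hf = g.appLE V W hg := by
    rintro f g W hf hg rfl; rfl
  rw [← CommRingCat.comp_apply, ← CommRingCat.comp_apply, Scheme.Hom.appLE_comp_appLE, Scheme.Hom.appLE_comp_appLE]
  exact congrArg (fun T : Γ(Z.left, V) ⟶ _ => T.hom t) (key _ _ _ _ _ hψ.left)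

/-- An invariant map which is surjective, has the invariant functions as functions, and separates invariant open covers,
is a categorical quotient. -/
theorem isCatQuot_of_cover (hi : GIT.IsInvariant a φ) (hsurj : Function.Surjective φ.left.base)
    (hsec : ∀ U : Y.left.Opens,
      Function.Injective (φ.left.app U) ∧ Set.range (φ.left.app U) = {f | GIT.IsInvSection a φ U f})
    (hcov : ∀ (J : Type u) (W : J → X.left.Opens), (∀ i, a.act.left ⁻¹ᵁ W i = (snd G X).left ⁻¹ᵁ W i) →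
      (∀ x, ∃ i, x ∈ W i) → ∀ y, ∃ i, ∃ U : Y.left.Opens, y ∈ U ∧ φ.left ⁻¹ᵁ U ≤ W i) :
    GIT.IsCatQuot a φ := by
  refine ⟨hi, fun Z ψ hψ => ?_⟩
  haveI : Epi φ.left := epi_of_surjective_of_app_injective _ hsurj fun U => (hsec U).1
  -- an invariant affine cover
  let J := Σ' (V : Z.left.Opens), IsAffineOpen V
  have hW : ∀ i : J, a.act.left ⁻¹ᵁ (ψ.left ⁻¹ᵁ i.1) = (snd G X).left ⁻¹ᵁ (ψ.left ⁻¹ᵁ i.1) := fun i => by
    rw [← Scheme.Hom.comp_preimage, ← Scheme.Hom.comp_preimage]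
    exact congrArg (fun T : (G ⊗ X).left ⟶ Z.left => T ⁻¹ᵁ i.1) hψ.left
  choose i U hyU hUW using hcov J (fun i => ψ.left ⁻¹ᵁ i.1) hW fun x => by
    obtain ⟨_, ⟨V, hV, rfl⟩, hxV, -⟩ := Z.left.isBasis_affineOpens.exists_subset_of_mem_open
      (Set.mem_univ (ψ.left.base x)) isOpen_univ
    exact ⟨⟨V, hV⟩, hxV⟩
  have hloc : ∀ y, ∃ g : (U y).toScheme ⟶ Z.left, φ.left ∣_ U y ≫ g = (φ.left ⁻¹ᵁ U y).ι ≫ ψ.left := by
    intro y
    have hex : ∀ t : Γ(Z.left, (i y).1), ∃ s, φ.left.app (U y) s = ψ.left.appLE (i y).1 _ (hUW y) t := fun t => by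
      have h := isInvSection_appLE ψ hψ (U y) (i y).1 (hUW y) t
      rw [← Set.mem_setOf_eq (p := fun f => GIT.IsInvSection a φ (U y) f), ← (hsec (U y)).2] at h
      exact h
    choose β hβ using hex
    let B : Γ(Z.left, (i y).1) ⟶ Γ(Y.left, U y) := CommRingCat.ofHom
      { toFun := β
        map_one' := (hsec (U y)).1 (by rw [hβ, map_one, map_one])
        map_mul' := fun s t => (hsec (U y)).1 (by rw [hβ, map_mul, map_mul, hβ, hβ])
        map_zero' := (hsec (U y)).1 (by rw [hβ, map_zero, map_zero])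
        map_add' := fun s t => (hsec (U y)).1 (by rw [hβ, map_add, map_add, hβ, hβ]) }
    refine ⟨(U y).toSpecΓ ≫ Spec.map B ≫ (i y).2.fromSpec, ?_⟩
    have hB : B ≫ φ.left.app (U y) = ψ.left.appLE (i y).1 _ (hUW y) :=
      CommRingCat.hom_ext (RingHom.ext hβ)
    rw [← Category.assoc, ← Scheme.Opens.toSpecΓ_naturality, Category.assoc, ← Spec.map_comp_assoc, hB,
      ← Category.assoc, Scheme.Opens.toSpecΓ_SpecMap_appLE, Category.assoc, IsAffineOpen.toSpecΓ_fromSpec,
      Scheme.Hom.resLE_comp_ι]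
  choose g hg using hloc
  let 𝒰 := Y.left.openCoverOfIsOpenCover U (.mk (top_le_iff.mp fun y _ => TopologicalSpace.Opens.mem_iSup.mpr ⟨y, hyU y⟩))
  have hglue : ∀ y y', pullback.fst (U y).ι (U y').ι ≫ g y = pullback.snd (U y).ι (U y').ι ≫ g y' := by
    intro y y'
    let j := pullback.fst (U y).ι (U y').ι ≫ (U y).ι
    haveI := epi_pullback_snd φ.left hsurj (fun U => (hsec U).1) j
    rw [← cancel_epi (pullback.snd φ.left j)]
    have key : ∀ (y₀ : Y.left) (p : pullback (U y).ι (U y').ι ⟶ (U y₀).toScheme), p ≫ (U y₀).ι = j →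
        pullback.snd φ.left j ≫ p ≫ g y₀ = pullback.fst φ.left j ≫ ψ.left := by
      intro y₀ p hp
      have sq := (isPullback_morphismRestrict φ.left (U y₀)).flip
      let r := sq.lift (pullback.fst φ.left j) (pullback.snd φ.left j ≫ p)
        (by rw [Category.assoc, hp, pullback.condition])
      have h2 : r ≫ φ.left ∣_ U y₀ = pullback.snd φ.left j ≫ p := sq.lift_snd _ _ _
      have h1 : r ≫ (φ.left ⁻¹ᵁ U y₀).ι = pullback.fst φ.left j := sq.lift_fst _ _ _
      rw [← Category.assoc, ← h2, Category.assoc, hg, ← Category.assoc, h1]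
    rw [key y _ rfl, key y' _ pullback.condition.symm]
  let χ₀ : Y.left ⟶ Z.left := 𝒰.glueMorphisms g hglue
  have hχ₀ : ∀ y, (U y).ι ≫ χ₀ = g y := fun y => 𝒰.ι_glueMorphisms g hglue y
  have hφχ : φ.left ≫ χ₀ = ψ.left := by
    have hcovX : (⨆ y, φ.left ⁻¹ᵁ U y) = ⊤ := top_le_iff.mp fun x _ =>
      TopologicalSpace.Opens.mem_iSup.mpr ⟨φ.left.base x, hyU _⟩
    refine Scheme.Cover.hom_ext (X.left.openCoverOfIsOpenCover _ (.mk hcovX)) _ _ fun y => ?_
    show (φ.left ⁻¹ᵁ U y).ι ≫ φ.left ≫ χ₀ = (φ.left ⁻¹ᵁ U y).ι ≫ ψ.left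
    rw [← Category.assoc, ← morphismRestrict_ι, Category.assoc]
    exact (congrArg ((φ.left ∣_ U y) ≫ ·) (hχ₀ y)).trans (hg y)
  have hχS : χ₀ ≫ Z.hom = Y.hom := by
    rw [← cancel_epi φ.left, ← Category.assoc, hφχ, Over.w, Over.w]
  refine ⟨Over.homMk χ₀ hχS, Over.OverMorphism.ext hφχ, fun χ hχ => Over.OverMorphism.ext ?_⟩
  rw [← cancel_epi φ.left, ← Over.comp_left, hχ]
  exact hφχ.symm

end Groth.Agent.GITQuot
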