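import Groth.Agent.GITQuot.BaseChange
import Mathlib.AlgebraicGeometry.Morphisms.SchemeTheoreticallyDominant

/-!
# Faithfully flat descent of geometric quotients
-/

universe u

open CategoryTheory CategoryTheory.Limits MonoidalCategory CartesianMonoidalCategory MonObj AlgebraicGeometry Topology

namespace Groth.Agent.GITQuot

theorem isUnivSubmersive_comp {X Y Z : Scheme.{u}} {f : X ⟶ Y} {g : Y ⟶ Z} (hf : GIT.IsUnivSubmersive f)
    (hg : GIT.IsUnivSubmersive g) : GIT.IsUnivSubmersive (f ≫ g) := by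
  intro X' Z' i₁ i₂ f' h
  let k : X' ⟶ pullback g i₂ := pullback.lift (i₁ ≫ f) f' (by rw [Category.assoc, h.w])
  have hk1 : k ≫ pullback.fst g i₂ = i₁ ≫ f := pullback.lift_fst _ _ _
  have hk2 : k ≫ pullback.snd g i₂ = f' := pullback.lift_snd _ _ _
  have hsq : IsPullback i₁ k f (pullback.fst g i₂) :=
    IsPullback.of_bot (by rw [hk2]; exact h.flip) hk1.symm (IsPullback.of_hasPullback g i₂)
  have hP : IsQuotientMap k.base := hf _ _ k hsq.flip
  have hQ : IsQuotientMap (pullback.snd g i₂).base := hg _ _ _ (IsPullback.of_hasPullback g i₂).flip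
  rw [← hk2]
  exact hQ.comp hP

theorem isUnivSubmersive_of_comp {X Y Z : Scheme.{u}} {f : X ⟶ Y} {g : Y ⟶ Z}
    (h : GIT.IsUnivSubmersive (f ≫ g)) : GIT.IsUnivSubmersive g := by
  intro Y' Z' i₁ i₂ g' hg'
  have hsq : IsPullback (pullback.fst f i₁) (pullback.snd f i₁ ≫ g') (f ≫ g) i₂ :=
    (IsPullback.of_hasPullback f i₁).paste_vert hg'.flip
  have hq : IsQuotientMap (pullback.snd f i₁ ≫ g').base := h _ _ _ hsq.flip
  exact IsQuotientMap.of_comp (pullback.snd f i₁).continuous g'.continuous hq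

theorem isUnivSubmersive_of_flat {X Y : Scheme.{u}} (f : X ⟶ Y) [Flat f] [Surjective f] [QuasiCompact f] :
    GIT.IsUnivSubmersive f := by
  intro X' Y' i₁ i₂ f' h
  haveI : Flat f' := MorphismProperty.of_isPullback h.flip (by infer_instance)
  haveI : Surjective f' := MorphismProperty.of_isPullback h.flip (by infer_instance)
  haveI : QuasiCompact f' := MorphismProperty.of_isPullback h.flip (by infer_instance)
  exact Flat.isQuotientMap_of_surjective f'

theorem isSchemeTheoreticallyDominant_of_app_injective {X Y : Scheme.{u}} (f : X ⟶ Y) [QuasiCompact f]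
    (h : ∀ U, Function.Injective (f.app U)) : IsSchemeTheoreticallyDominant f := by
  refine ⟨Scheme.IdealSheafData.ext (funext fun U => ?_)⟩
  rw [Scheme.Hom.ker_apply, Scheme.IdealSheafData.ideal_bot, Pi.bot_apply, ← RingHom.injective_iff_ker_eq_bot]
  exact h U.1

theorem cancel_dominant {X Y : Scheme.{u}} {A : CommRingCat.{u}} (q : X ⟶ Y) [QuasiCompact q]
    [IsSchemeTheoreticallyDominant q] {g g' : Y ⟶ Spec A} (h : q ≫ g = q ≫ g') : g = g' := by
  refine ext_of_isAffine ?_
  haveI : Mono (q.app ⊤) := ConcreteCategory.mono_of_injective _ (q.app_injective ⊤)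
  have := congrArg Scheme.Hom.appTop h
  simp only [Scheme.Hom.comp_appTop] at this
  exact (cancel_mono (q.app ⊤)).mp this

variable {S : Scheme.{u}} {G X Y : Over S} [GrpObj G] {a : AlgGrp.Action G X} {φ : X ⟶ Y}
variable {X' Y' : Over S} {pr : X' ⟶ X} {φ' : X' ⟶ Y'} {α : Y' ⟶ Y}

theorem isGeomQuot_of_descent (hi : GIT.IsInvariant a φ) [QuasiCompact φ.left]
    [Flat α.left] [Surjective α.left] [QuasiCompact α.left] (hpb : IsPullback pr φ' φ α)
    (a' : AlgGrp.Action G X') (heq : a'.act ≫ pr = (G ◁ pr) ≫ a.act) (hinv : GIT.IsInvariant a' φ')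
    (h : GIT.IsGeomQuot a' φ') : GIT.IsGeomQuot a φ := by
  have hL := isPullback_left hpb
  haveI : QuasiCompact φ'.left := MorphismProperty.of_isPullback hL (by infer_instance)
  haveI : IsSchemeTheoreticallyDominant φ'.left :=
    isSchemeTheoreticallyDominant_of_app_injective _ fun U => (h.sections U).1
  refine ⟨hi, fun y => ?_, fun z => ?_, ?_, fun U => ?_⟩
  · obtain ⟨y', rfl⟩ := α.left.surjective y
    obtain ⟨x', rfl⟩ := h.surj y'
    exact ⟨pr.left.base x', by rw [← Scheme.Hom.comp_apply, hL.w, Scheme.Hom.comp_apply]⟩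
  · -- lift a point of `X ×_Y X` to `X' ×_{Y'} X'`
    let c : pullback φ.left φ.left ⟶ Y.left := pullback.fst φ.left φ.left ≫ φ.left
    obtain ⟨y', hy'⟩ := α.left.surjective (c.base z)
    obtain ⟨p, hp₁, -⟩ := Scheme.Pullback.exists_preimage_pullback (f := c) (g := α.left) z y' hy'.symm
    let P : Over S := Over.mk (pullback.snd c α.left ≫ Y'.hom)
    let u₁ : pullback c α.left ⟶ X'.left := hL.lift (pullback.fst c α.left ≫ pullback.fst φ.left φ.left)
      (pullback.snd c α.left) (by rw [Category.assoc]; exact pullback.condition)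
    let u₂ : pullback c α.left ⟶ X'.left := hL.lift (pullback.fst c α.left ≫ pullback.snd φ.left φ.left)
      (pullback.snd c α.left) (by rw [Category.assoc, ← pullback.condition]; exact pullback.condition)
    have hu₁ : u₁ ≫ φ'.left = pullback.snd c α.left := hL.lift_snd _ _ _
    have hu₂ : u₂ ≫ φ'.left = pullback.snd c α.left := hL.lift_snd _ _ _
    let x : P ⟶ X' := Over.homMk u₁ (by
      show u₁ ≫ X'.hom = pullback.snd c α.left ≫ Y'.hom
      rw [← Over.w φ', ← Category.assoc, hu₁])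
    let x' : P ⟶ X' := Over.homMk u₂ (by
      show u₂ ≫ X'.hom = pullback.snd c α.left ≫ Y'.hom
      rw [← Over.w φ', ← Category.assoc, hu₂])
    obtain ⟨R, rP, w, r, hr, hwa, hws⟩ := exists_translate hinv h.orbit x x'
      (Over.OverMorphism.ext (hu₁.trans hu₂.symm)) p
    refine ⟨(w ≫ (G ◁ pr)).left.base r, ?_⟩
    have e : (w ≫ (G ◁ pr)).left ≫ GIT.PsiY a φ hi = rP.left ≫ pullback.fst c α.left := by
      apply pullback.hom_ext
      · have h1 : (w ≫ (G ◁ pr)) ≫ a.act = rP ≫ x ≫ pr := by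
          rw [Category.assoc, ← heq, ← Category.assoc, hwa, Category.assoc]
        rw [Category.assoc, GIT.PsiY, pullback.lift_fst]
        refine (congrArg CommaMorphism.left h1).trans ?_
        show rP.left ≫ u₁ ≫ pr.left = _
        rw [hL.lift_fst, Category.assoc]
      · have h1 : (w ≫ (G ◁ pr)) ≫ snd G X = rP ≫ x' ≫ pr := by
          rw [Category.assoc, whiskerLeft_snd, ← Category.assoc, hws, Category.assoc]
        rw [Category.assoc, GIT.PsiY, pullback.lift_snd]
        refine (congrArg CommaMorphism.left h1).trans ?_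
        show rP.left ≫ u₂ ≫ pr.left = _
        rw [hL.lift_fst, Category.assoc]
    rw [← Scheme.Hom.comp_apply, e, Scheme.Hom.comp_apply, hr]
    exact hp₁
  · refine isUnivSubmersive_of_comp (f := pr.left) ?_
    rw [hL.w]
    exact isUnivSubmersive_comp h.subm (isUnivSubmersive_of_flat _)
  · haveI : Surjective (α.left ∣_ U) := IsZariskiLocalAtTarget.restrict (P := @Surjective) ‹_› U
    haveI : Flat (α.left ∣_ U) := inferInstance
    set U' := α.left ⁻¹ᵁ U with hU'
    have le : φ'.left ⁻¹ᵁ U' ≤ pr.left ⁻¹ᵁ (φ.left ⁻¹ᵁ U) := fun x hx => by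
      show φ.left.base (pr.left.base x) ∈ U
      rw [← Scheme.Hom.comp_apply, hL.w]
      exact hx
    have happ : ∀ t : Γ(Y.left, U),
        φ'.left.app U' (α.left.app U t) = pr.left.appLE (φ.left ⁻¹ᵁ U) (φ'.left ⁻¹ᵁ U') le (φ.left.app U t) := by
      intro t
      rw [Scheme.Hom.app_eq_appLE, Scheme.Hom.app_eq_appLE, Scheme.Hom.app_eq_appLE, ← CommRingCat.comp_apply,
        ← CommRingCat.comp_apply, Scheme.Hom.appLE_comp_appLE, Scheme.Hom.appLE_comp_appLE]
      have key : ∀ (f g : X'.left ⟶ Y.left) (hf : φ'.left ⁻¹ᵁ U' ≤ f ⁻¹ᵁ U) (hg : φ'.left ⁻¹ᵁ U' ≤ g ⁻¹ᵁ U),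
          f = g → f.appLE U (φ'.left ⁻¹ᵁ U') hf = g.appLE U (φ'.left ⁻¹ᵁ U') hg := by
        rintro f g hf hg rfl; rfl
      exact congrArg (fun T : Γ(Y.left, U) ⟶ _ => T.hom t) (key _ _ _ _ hL.w.symm)
    refine ⟨fun s t hst => ?_, Set.Subset.antisymm ?_ fun f hf => ?_⟩
    · apply hat_injective
      rw [← cancel_epi (α.left ∣_ U), morphismRestrict_hat, morphismRestrict_hat]
      exact congrArg hat ((h.sections U').1 (by rw [happ, happ, hst]))
    · rintro _ ⟨t, rfl⟩
      have h' := isInvSection_appLE (φ := φ) φ hi U U (le_refl (φ.left ⁻¹ᵁ U)) t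
      rwa [Scheme.Hom.appLE_eq_app] at h'
    · let f' := pr.left.appLE (φ.left ⁻¹ᵁ U) (φ'.left ⁻¹ᵁ U') le f
      have hf' : GIT.IsInvSection a' φ' U' f' := by
        let W := a.act.left ⁻¹ᵁ (φ.left ⁻¹ᵁ U) ⊓ (snd G X).left ⁻¹ᵁ (φ.left ⁻¹ᵁ U)
        let W' := a'.act.left ⁻¹ᵁ (φ'.left ⁻¹ᵁ U') ⊓ (snd G X').left ⁻¹ᵁ (φ'.left ⁻¹ᵁ U')
        have e₁ : a'.act.left ≫ pr.left = (G ◁ pr).left ≫ a.act.left := congrArg CommaMorphism.left heq
        have e₂ : (snd G X').left ≫ pr.left = (G ◁ pr).left ≫ (snd G X).left := by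
          rw [← Over.comp_left, ← Over.comp_left, whiskerLeft_snd]
        have hW : W' ≤ (G ◁ pr).left ⁻¹ᵁ W := fun w hw => by
          refine ⟨?_, ?_⟩
          · show (G ◁ pr).left.base w ∈ a.act.left ⁻¹ᵁ (φ.left ⁻¹ᵁ U)
            have := le hw.1
            show a.act.left.base ((G ◁ pr).left.base w) ∈ φ.left ⁻¹ᵁ U
            rw [← Scheme.Hom.comp_apply, ← e₁]
            exact this
          · show (snd G X).left.base ((G ◁ pr).left.base w) ∈ φ.left ⁻¹ᵁ U
            rw [← Scheme.Hom.comp_apply, ← e₂]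
            exact le hw.2
        have key : ∀ (p' : (G ⊗ X').left ⟶ X'.left) (p : (G ⊗ X).left ⟶ X.left)
            (hp' : W' ≤ p' ⁻¹ᵁ (φ'.left ⁻¹ᵁ U')) (hp : W ≤ p ⁻¹ᵁ (φ.left ⁻¹ᵁ U)),
            p' ≫ pr.left = (G ◁ pr).left ≫ p →
            p'.appLE _ W' hp' f' = (G ◁ pr).left.appLE W W' hW (p.appLE _ W hp f) := by
          intro p' p hp' hp e
          show p'.appLE _ W' hp' (pr.left.appLE _ _ le f) = _
          rw [← CommRingCat.comp_apply, ← CommRingCat.comp_apply, Scheme.Hom.appLE_comp_appLE,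
            Scheme.Hom.appLE_comp_appLE]
          have key' : ∀ (u v : (G ⊗ X').left ⟶ X.left) (hu : W' ≤ u ⁻¹ᵁ (φ.left ⁻¹ᵁ U))
              (hv : W' ≤ v ⁻¹ᵁ (φ.left ⁻¹ᵁ U)), u = v → u.appLE _ W' hu = v.appLE _ W' hv := by
            rintro u v hu hv rfl; rfl
          exact congrArg (fun T : Γ(X.left, φ.left ⁻¹ᵁ U) ⟶ _ => T.hom f) (key' _ _ _ _ e)
        show a'.act.left.appLE _ W' inf_le_left f' = (snd G X').left.appLE _ W' inf_le_right f'
        rw [key _ _ _ inf_le_left e₁, key _ _ _ inf_le_right e₂]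
        exact congrArg ((G ◁ pr).left.appLE W W' hW) hf
      obtain ⟨t', ht'⟩ : f' ∈ Set.range (φ'.left.app U') := by
        rw [(h.sections U').2]; exact hf'
      -- descend `t'`
      have h0 : pullback.fst (α.left ∣_ U) (α.left ∣_ U) ≫ hat t' = pullback.snd (α.left ∣_ U) (α.left ∣_ U) ≫ hat t' := by
        let p₁ := pullback.fst (α.left ∣_ U) (α.left ∣_ U)
        let p₂ := pullback.snd (α.left ∣_ U) (α.left ∣_ U)
        let q := pullback.snd φ'.left (p₁ ≫ U'.ι)
        let x₁ := pullback.fst φ'.left (p₁ ≫ U'.ι)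
        have hx₁ : x₁ ≫ φ'.left = q ≫ p₁ ≫ U'.ι := pullback.condition
        have hp : p₁ ≫ U'.ι ≫ α.left = p₂ ≫ U'.ι ≫ α.left := by
          rw [← morphismRestrict_ι, ← Category.assoc, ← Category.assoc, pullback.condition]
        have hc : (x₁ ≫ pr.left) ≫ φ.left = (q ≫ p₂ ≫ U'.ι) ≫ α.left := by
          rw [Category.assoc, hL.w, ← Category.assoc, hx₁]
          simp only [Category.assoc, hp]
        let x₂ := hL.lift (x₁ ≫ pr.left) (q ≫ p₂ ≫ U'.ι) hc
        have hx₂ : x₂ ≫ φ'.left = q ≫ p₂ ≫ U'.ι := hL.lift_snd _ _ _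
        have hmain : ∀ (p : pullback (α.left ∣_ U) (α.left ∣_ U) ⟶ U'.toScheme)
            (x : pullback φ'.left (p₁ ≫ U'.ι) ⟶ X'.left), x ≫ φ'.left = q ≫ p ≫ U'.ι →
            ∃ r : pullback φ'.left (p₁ ≫ U'.ι) ⟶ (φ.left ⁻¹ᵁ U).toScheme,
              r ≫ (φ.left ⁻¹ᵁ U).ι = x ≫ pr.left ∧ q ≫ p ≫ hat t' = r ≫ hat f := by
          intro p x hx
          have sq := (isPullback_morphismRestrict φ'.left U').flip
          let r₀ := sq.lift x (q ≫ p) (by rw [hx, Category.assoc])
          have hr₁ : r₀ ≫ (φ'.left ⁻¹ᵁ U').ι = x := sq.lift_fst _ _ _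
          have hr₂ : r₀ ≫ φ'.left ∣_ U' = q ≫ p := sq.lift_snd _ _ _
          refine ⟨r₀ ≫ pr.left.resLE (φ.left ⁻¹ᵁ U) _ le, ?_, ?_⟩
          · rw [Category.assoc, Scheme.Hom.resLE_comp_ι, ← Category.assoc, hr₁]
          · rw [← Category.assoc, ← hr₂, Category.assoc, morphismRestrict_hat, ht', Category.assoc, resLE_hat]
        obtain ⟨r₁, hr₁, e₁⟩ := hmain p₁ x₁ hx₁
        obtain ⟨r₂, hr₂, e₂⟩ := hmain p₂ x₂ hx₂
        have hr : r₁ = r₂ := by
          rw [← cancel_mono (φ.left ⁻¹ᵁ U).ι, hr₁, hr₂, hL.lift_fst]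
        haveI : IsSchemeTheoreticallyDominant q :=
          IsSchemeTheoreticallyDominant.of_isPullback (IsPullback.of_hasPullback φ'.left (p₁ ≫ U'.ι))
        exact cancel_dominant q (by rw [e₁, e₂, hr])
      obtain ⟨t, ht⟩ := hat_surjective (EffectiveEpi.desc (α.left ∣_ U) (hat t') fun {Z} g₁ g₂ hg => by
        have h1 := congrArg (pullback.lift g₁ g₂ hg ≫ ·) h0
        simpa only [← Category.assoc, pullback.lift_fst, pullback.lift_snd] using h1)
      have hα : α.left.app U t = t' := by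
        apply hat_injective
        rw [← morphismRestrict_hat, ht]
        exact EffectiveEpi.fac (α.left ∣_ U) (hat t') _
      refine ⟨t, ?_⟩
      -- compare after pulling back to `X'`, along which functions inject
      haveI : Flat pr.left := MorphismProperty.of_isPullback hL.flip (by infer_instance)
      haveI : Surjective pr.left := MorphismProperty.of_isPullback hL.flip (by infer_instance)
      haveI : QuasiCompact pr.left := MorphismProperty.of_isPullback hL.flip (by infer_instance)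
      haveI : Flat (pr.left ∣_ φ.left ⁻¹ᵁ U) := inferInstance
      haveI : Surjective (pr.left ∣_ φ.left ⁻¹ᵁ U) := IsZariskiLocalAtTarget.restrict (P := @Surjective) ‹_› _
      apply hat_injective
      rw [← cancel_epi (pr.left ∣_ φ.left ⁻¹ᵁ U), morphismRestrict_hat, morphismRestrict_hat]
      refine congrArg hat ?_
      have hE : φ'.left ⁻¹ᵁ U' = pr.left ⁻¹ᵁ (φ.left ⁻¹ᵁ U) := by
        rw [hU', ← Scheme.Hom.comp_preimage, ← Scheme.Hom.comp_preimage, hL.w]
      have h2 := happ t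
      rw [hα, ht'] at h2
      have inj : Function.Injective (X'.left.presheaf.map (homOfLE le).op) := by
        rw [Subsingleton.elim (homOfLE le).op (eqToHom hE).op]
        exact (ConcreteCategory.bijective_of_isIso _).1
      refine inj ?_
      have h3 : ∀ s, X'.left.presheaf.map (homOfLE le).op (pr.left.app (φ.left ⁻¹ᵁ U) s) =
          pr.left.appLE (φ.left ⁻¹ᵁ U) (φ'.left ⁻¹ᵁ U') le s := fun s => by
        rw [← CommRingCat.comp_apply]; rfl
      rw [h3, h3, ← h2]

end Groth.Agent.GITQuot
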