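import Groth.Agent.GITQuot.Point
import Groth.Agent.GITQuot.BaseChange
import Groth.Agent.GrpSchLib.OrbitDim
import Groth.Prelude.Def_W4c6nonredquotmfGoodQuot

/-!
# Orbits in the fibres of good quotients
-/

set_option backward.isDefEq.respectTransparency false
set_option backward.isDefEq.respectTransparency.types false

universe u

open CategoryTheory MonoidalCategory CartesianMonoidalCategory MonObj GrpObj AlgebraicGeometry Topology

namespace Groth.Agent.GITQuot.Good

section

variable {S : Scheme.{u}} {G X : Over S} [GrpObj G] (a : AlgGrp.Action G X)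

include a in
theorem preimage_eq {W : Set X.left} (hW : NRQuot.IsInvariantSet a W) :
    a.act.left.base ⁻¹' W = (snd G X).left.base ⁻¹' W := by
  let Ψ : G ⊗ X ⟶ G ⊗ X := lift (fst G X)⁻¹ a.act
  have h1 : Ψ ≫ snd G X = a.act := lift_snd _ _
  have h2 : Ψ ≫ a.act = snd G X := by
    have e : a.act = lift (fst G X) (snd G X) ≫ a.act := by rw [lift_fst_snd, Category.id_comp]
    show lift (fst G X)⁻¹ a.act ≫ a.act = snd G X
    conv_lhs => arg 1; arg 2; rw [e]
    rw [GrpSchLib.act_mul, inv_mul_cancel, GrpSchLib.act_one]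
  ext p
  refine ⟨fun hp => ?_, fun hp => hW p hp⟩
  have := hW (Ψ.left.base p) (by rw [← Scheme.Hom.comp_apply, ← Over.comp_left, h1]; exact hp)
  rwa [← Scheme.Hom.comp_apply, ← Over.comp_left, h2] at this

include a in
theorem isInvariantSet_range_orbit (x : 𝟙_ (Over S) ⟶ X) :
    NRQuot.IsInvariantSet a (Set.range (a.orbitMap x).left.base) := by
  rintro p ⟨g, hg⟩
  obtain ⟨w, hw, -⟩ := Scheme.exists_preimage_of_isPullback
    (GITQuot.isPullback_left (GITQuot.isPullback_tensorLeft (G := G) (a.orbitMap x))) p g hg.symm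
  refine ⟨μ[G].left.base w, ?_⟩
  have e : μ[G] ≫ a.orbitMap x = (G ◁ a.orbitMap x) ≫ a.act := by
    have e1 : (G ◁ a.orbitMap x) = lift (fst G G) (lift (snd G G) (toUnit _ ≫ x) ≫ a.act) := by
      apply CartesianMonoidalCategory.hom_ext
      · rw [whiskerLeft_fst, lift_fst]
      · rw [whiskerLeft_snd, lift_snd, AlgGrp.Action.orbitMap, ← Category.assoc, comp_lift, Category.comp_id,
          ← Category.assoc, comp_toUnit]
    rw [e1, GrpSchLib.act_mul, AlgGrp.Action.orbitMap, ← Category.assoc, comp_lift, Category.comp_id,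
      ← Category.assoc, comp_toUnit, Hom.mul_def, lift_fst_snd, Category.id_comp]
  rw [← hw, ← Scheme.Hom.comp_apply, ← Scheme.Hom.comp_apply, ← Over.comp_left, ← Over.comp_left, e]

end

variable {k : Type u} [Field k] {G X Y : Over (Spec (CommRingCat.of k))} [GrpObj G] (a : AlgGrp.Action G X)

local notation "𝟙k" => 𝟙_ (Over (Spec (CommRingCat.of k)))

include a in
theorem isInvariantSet_closure {W : Set X.left} (hW : NRQuot.IsInvariantSet a W) :
    NRQuot.IsInvariantSet a (closure W) := by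
  intro p hp
  haveI : UniversallyOpen (snd G X).left := inferInstanceAs (UniversallyOpen (Limits.pullback.snd G.hom X.hom))
  have h := (snd G X).left.isOpenMap.preimage_closure_eq_closure_preimage (snd G X).left.continuous W
  have h' : p ∈ (snd G X).left.base ⁻¹' closure W := hp
  rw [h] at h'
  exact map_mem_closure a.act.left.continuous h' fun q hq => hW q hq

theorem exists_point [IsAlgClosed k] (Z : Over (Spec (CommRingCat.of k))) [LocallyOfFiniteType Z.hom]
    {C : Set Z.left} (hC : IsLocallyClosed C) (hne : C.Nonempty) :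
    ∃ z : 𝟙k ⟶ Z, z.left.base (IsLocalRing.closedPoint k) ∈ C := by
  haveI : JacobsonSpace Z.left := LocallyOfFiniteType.jacobsonSpace Z.hom
  obtain ⟨c, hc1, hc⟩ := nonempty_inter_closedPoints hne hC
  refine ⟨Over.homMk _ ((pointEquivClosedPoint Z.hom).symm ⟨c, hc⟩).2, ?_⟩
  have : ((pointEquivClosedPoint Z.hom).symm ⟨c, hc⟩).1 (IsLocalRing.closedPoint k) = c :=
    congrArg Subtype.val ((pointEquivClosedPoint Z.hom).apply_symm_apply ⟨c, hc⟩)
  exact this.symm ▸ hc1

theorem isClosed_point (Z : Over (Spec (CommRingCat.of k))) (z : 𝟙k ⟶ Z) :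
    IsClosed {z.left.base (IsLocalRing.closedPoint k)} := by
  have h := isClosed_section_point Z.hom z.left (Over.w z)
  have e : Set.range z.left.base = {z.left.base (IsLocalRing.closedPoint k)} :=
    Set.ext fun w => ⟨fun ⟨t, ht⟩ => ht ▸ congrArg z.left.base (Subsingleton.elim (α := Spec (CommRingCat.of k)) t _),
      fun h => ⟨_, h.symm⟩⟩
  exact Eq.mp (congrArg IsClosed e) h

theorem point_ext {Z : Over (Spec (CommRingCat.of k))} {z z' : 𝟙k ⟶ Z}
    (h : z.left.base (IsLocalRing.closedPoint k) = z'.left.base (IsLocalRing.closedPoint k)) : z = z' := by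
  have e := eq_section_of_base_eq Z.hom z'.left (Over.w z') z.left h
  exact Over.OverMorphism.ext (e.symm.trans (by rw [← Category.assoc, Over.w z]; exact Category.id_comp _))

include a in
theorem exists_of_mem_orbit [IsAlgClosed k] [LocallyOfFiniteType G.hom] (x x' : 𝟙k ⟶ X)
    (h : x'.left.base (IsLocalRing.closedPoint k) ∈ Set.range (a.orbitMap x).left.base) :
    ∃ g : 𝟙k ⟶ G, lift g x ≫ a.act = x' := by
  obtain ⟨g, hg⟩ := exists_point G
    (C := (a.orbitMap x).left.base ⁻¹' {x'.left.base (IsLocalRing.closedPoint k)})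
    ((isClosed_point X x').preimage (a.orbitMap x).left.continuous).isLocallyClosed
    (h.imp fun _ hz => hz)
  refine ⟨g, point_ext ?_⟩
  have e : g ≫ a.orbitMap x = lift g x ≫ a.act := by
    rw [AlgGrp.Action.orbitMap, ← Category.assoc, comp_lift, Category.comp_id, ← Category.assoc,
      comp_toUnit, toUnit_unit, Category.id_comp]
  rw [← e]
  exact hg

include a in
theorem mem_orbit (x : 𝟙k ⟶ X) :
    x.left.base (IsLocalRing.closedPoint k) ∈ Set.range (a.orbitMap x).left.base := by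
  refine ⟨(η[G] : 𝟙k ⟶ G).left.base (IsLocalRing.closedPoint k), ?_⟩
  have e : (η[G] : 𝟙k ⟶ G) ≫ a.orbitMap x = x := by
    rw [AlgGrp.Action.orbitMap, ← Category.assoc, comp_lift, Category.comp_id, ← Category.assoc,
      comp_toUnit, toUnit_unit, Category.id_comp]
    have := GrpSchLib.act_one (a := a) x
    rwa [Hom.one_def, toUnit_unit, Category.id_comp] at this
  exact congrArg (fun z : 𝟙k ⟶ X => z.left.base (IsLocalRing.closedPoint k)) e

variable {φ : X ⟶ Y}

include a in
theorem closure_orbit_subset (hi : GIT.IsInvariant a φ) (x : 𝟙k ⟶ X) :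
    closure (Set.range (a.orbitMap x).left.base) ⊆
      φ.left.base ⁻¹' {(x ≫ φ).left.base (IsLocalRing.closedPoint k)} := by
  refine closure_minimal ?_ ((isClosed_point Y (x ≫ φ)).preimage φ.left.continuous)
  rintro _ ⟨g, rfl⟩
  have hi' : a.act ≫ φ = snd G X ≫ φ := hi
  have e : a.orbitMap x ≫ φ = toUnit G ≫ x ≫ φ := by
    rw [AlgGrp.Action.orbitMap, Category.assoc, hi', lift_snd_assoc, Category.assoc]
  show φ.left.base ((a.orbitMap x).left.base g) = _
  rw [← Scheme.Hom.comp_apply, ← Over.comp_left, e]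
  exact congrArg (x ≫ φ).left.base (Subsingleton.elim (α := Spec (CommRingCat.of k)) _ _)

theorem closures_meet (h : NRQuot.IsGoodQuot a φ) (x₁ x₂ : 𝟙k ⟶ X) :
    (closure (Set.range (a.orbitMap x₁).left.base) ∩ closure (Set.range (a.orbitMap x₂).left.base)).Nonempty ↔
      x₁ ≫ φ = x₂ ≫ φ := by
  constructor
  · rintro ⟨p, h1, h2⟩
    exact point_ext ((closure_orbit_subset a h.inv x₁ h1).symm.trans (closure_orbit_subset a h.inv x₂ h2))
  · intro e
    let W : ULift.{u} Bool → Set X.left := fun b =>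
      if b.down then closure (Set.range (a.orbitMap x₁).left.base) else closure (Set.range (a.orbitMap x₂).left.base)
    have hi := h.inter _ W
      (fun b => by unfold W; split <;> exact isClosed_closure)
      (fun b => by unfold W; split <;> exact isInvariantSet_closure a (isInvariantSet_range_orbit a _))
    have hy : (x₁ ≫ φ).left.base (IsLocalRing.closedPoint k) ∈ ⋂ b, φ.left.base '' W b := by
      refine Set.mem_iInter.2 fun b => ?_
      obtain ⟨_ | _⟩ := b
      · rw [e]; exact ⟨_, subset_closure (mem_orbit a x₂), rfl⟩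
      · exact ⟨_, subset_closure (mem_orbit a x₁), rfl⟩
    rw [← hi] at hy
    obtain ⟨p, hp, -⟩ := hy
    exact ⟨p, Set.mem_iInter.1 hp ⟨true⟩, Set.mem_iInter.1 hp ⟨false⟩⟩

theorem exists_translate [IsAlgClosed k] [LocallyOfFiniteType G.hom] [LocallyOfFiniteType X.hom]
    (h : NRQuot.IsGoodQuot a φ) (x₁ x₂ : 𝟙k ⟶ X) (e : x₁ ≫ φ = x₂ ≫ φ)
    (h1 : IsClosed (Set.range (a.orbitMap x₁).left.base)) (h2 : IsClosed (Set.range (a.orbitMap x₂).left.base)) :
    ∃ g : 𝟙k ⟶ G, lift g x₁ ≫ a.act = x₂ := by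
  have hm := (closures_meet a h x₁ x₂).2 e
  rw [h1.closure_eq, h2.closure_eq] at hm
  obtain ⟨z, hz⟩ := exists_point X (h1.inter h2).isLocallyClosed hm
  obtain ⟨g₁, e₁⟩ := exists_of_mem_orbit a x₁ z hz.1
  obtain ⟨g₂, e₂⟩ := exists_of_mem_orbit a x₂ z hz.2
  refine ⟨g₂⁻¹ * g₁, ?_⟩
  rw [← GrpSchLib.act_mul, e₁, ← e₂, GrpSchLib.act_mul, inv_mul_cancel, GrpSchLib.act_one]

include a in
theorem isLocallyClosed_orbit [IsAlgClosed k] [LocallyOfFiniteType G.hom] [QuasiCompact G.hom]
    [LocallyOfFiniteType X.hom] (x : 𝟙k ⟶ X) : IsLocallyClosed (Set.range (a.orbitMap x).left) := by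
  have : Nonempty G.left := ⟨(η[G] : 𝟙k ⟶ G).left (IsLocalRing.closedPoint k)⟩
  have : IsLocallyNoetherian X.left := LocallyOfFiniteType.isLocallyNoetherian X.hom
  have : QuasiSeparated X.hom := (quasiSeparated_iff_quasiSeparatedSpace X.hom).mpr inferInstance
  have : QuasiCompact (a.orbitMap x).left := by
    have : QuasiCompact ((a.orbitMap x).left ≫ X.hom) := by rw [Over.w (a.orbitMap x)]; infer_instance
    exact QuasiCompact.of_comp (a.orbitMap x).left X.hom
  refine GrpSchLib.isLocallyClosed_range_of_homogeneous (K := k) (a.orbitMap x) fun w w' => ?_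
  obtain ⟨S, T, h1, -, h3⟩ := GrpSchLib.orbitMap_homogeneous a x w w'
  exact ⟨S, T, h1, h3⟩

theorem exists_closed_orbit [IsAlgClosed k] [LocallyOfFiniteType G.hom] [QuasiCompact G.hom]
    [LocallyOfFiniteType X.hom] (h : NRQuot.IsGoodQuot a φ) (y : 𝟙k ⟶ Y)
    (hsurj : Function.Surjective φ.left.base) :
    ∃ x : 𝟙k ⟶ X, x ≫ φ = y ∧ IsClosed (Set.range (a.orbitMap x).left.base) := by
  let y₀ := y.left.base (IsLocalRing.closedPoint k)
  obtain ⟨_, ⟨V, hV, rfl⟩, hy₀, -⟩ := Y.left.isBasis_affineOpens.exists_subset_of_mem_open (Set.mem_univ y₀)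
    isOpen_univ
  haveI := h.affine
  have hU : IsAffineOpen (φ.left ⁻¹ᵁ V) := hV.preimage φ.left
  haveI : IsLocallyNoetherian X.left := LocallyOfFiniteType.isLocallyNoetherian X.hom
  haveI : IsAffine (φ.left ⁻¹ᵁ V).toScheme := hU
  haveI : IsNoetherian (φ.left ⁻¹ᵁ V).toScheme := {}
  haveI : TopologicalSpace.NoetherianSpace (φ.left ⁻¹ᵁ V).toScheme := inferInstance
  let F : Set X.left := φ.left.base ⁻¹' {y₀}
  have hF : IsClosed F := (isClosed_point Y y).preimage φ.left.continuous
  have hFU : F ⊆ (φ.left ⁻¹ᵁ V : Set X.left) := fun p hp => show φ.left.base p ∈ V from (Set.mem_singleton_iff.1 hp) ▸ hy₀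
  have hFi : NRQuot.IsInvariantSet a F := by
    intro p hp
    show φ.left.base (a.act.left.base p) ∈ ({y₀} : Set Y.left)
    rw [← Scheme.Hom.comp_apply, h.inv.left]
    exact hp
  let P : TopologicalSpace.Closeds (φ.left ⁻¹ᵁ V).toScheme → Prop := fun C => ∃ W : Set X.left, IsClosed W ∧
    NRQuot.IsInvariantSet a W ∧ W.Nonempty ∧ W ⊆ F ∧ (C : Set _) = (φ.left ⁻¹ᵁ V).ι.base ⁻¹' W
  obtain ⟨p₀, hp₀⟩ := hsurj y₀
  have hne : {C | P C}.Nonempty := ⟨⟨_, hF.preimage (φ.left ⁻¹ᵁ V).ι.continuous⟩, F, hF, hFi, ⟨p₀, hp₀⟩,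
    subset_rfl, rfl⟩
  obtain ⟨C, ⟨W, hW, hWi, hWne, hWF, hCW⟩, hmin⟩ :=
    (wellFounded_lt (α := TopologicalSpace.Closeds (φ.left ⁻¹ᵁ V).toScheme)).has_min _ hne
  have hmin' : ∀ W' : Set X.left, IsClosed W' → NRQuot.IsInvariantSet a W' → W'.Nonempty → W' ⊆ W → W ⊆ W' := by
    intro W' h1 h2 h3 h4 p hp
    by_contra hp'
    refine hmin ⟨_, h1.preimage (φ.left ⁻¹ᵁ V).ι.continuous⟩ ⟨W', h1, h2, h3, h4.trans hWF, rfl⟩ ?_
    refine lt_of_le_not_ge (fun q hq => hCW.ge (h4 hq)) fun hle => hp' ?_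
    exact hle (show (⟨p, hFU (hWF hp)⟩ : (φ.left ⁻¹ᵁ V).toScheme) ∈ C from hCW.ge hp)
  obtain ⟨x, hx⟩ := exists_point X hW.isLocallyClosed hWne
  refine ⟨x, point_ext (hWF hx), ?_⟩
  have hO := isInvariantSet_range_orbit a x
  have hsub : Set.range (a.orbitMap x).left.base ⊆ W := by
    rintro _ ⟨g, rfl⟩
    show (lift (𝟙 G) (toUnit G ≫ x) ≫ a.act).left.base g ∈ W
    refine hWi _ ?_
    show (lift (𝟙 G) (toUnit G ≫ x) ≫ snd G X).left.base g ∈ W
    rw [lift_snd]
    exact (congrArg x.left.base (Subsingleton.elim (α := Spec (CommRingCat.of k)) _ _)).symm ▸ hx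
  have heq : closure (Set.range (a.orbitMap x).left.base) = W :=
    Set.Subset.antisymm (closure_minimal hsub hW) (hmin' _ isClosed_closure (isInvariantSet_closure a hO)
      ⟨_, subset_closure (mem_orbit a x)⟩ (closure_minimal hsub hW))
  by_contra hnc
  have hB : IsClosed (closure (Set.range (a.orbitMap x).left.base) \ Set.range (a.orbitMap x).left.base) :=
    ⟨(isLocallyClosed_orbit a x).isOpen_coborder⟩
  have hBi : NRQuot.IsInvariantSet a
      (closure (Set.range (a.orbitMap x).left.base) \ Set.range (a.orbitMap x).left.base) := fun p hp =>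
    ⟨isInvariantSet_closure a hO p hp.1, fun h' => hp.2 ((preimage_eq a hO).le h')⟩
  have hBne : (closure (Set.range (a.orbitMap x).left.base) \ Set.range (a.orbitMap x).left.base).Nonempty := by
    rw [Set.nonempty_iff_ne_empty]
    exact fun he => hnc (closure_subset_iff_isClosed.mp (Set.sdiff_eq_empty.mp he))
  have := hmin' _ hB hBi hBne (by rw [← heq]; exact Set.sdiff_subset) hx
  exact this.2 (mem_orbit a x)

end Groth.Agent.GITQuot.Good
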