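import Groth.Agent.GITQuot.Orbit
import Groth.Agent.GrpSchLib.Action
import Groth.Prelude.Def_GLinSh
import Mathlib.AlgebraicGeometry.AlgClosed.Basic
import Mathlib.AlgebraicGeometry.Morphisms.QuasiFinite

/-!
# Orbits and stabilisers of successive quotients
-/

set_option backward.isDefEq.respectTransparency false
set_option backward.isDefEq.respectTransparency.types false

universe u

open CategoryTheory CategoryTheory.Limits MonoidalCategory CartesianMonoidalCategory MonObj GrpObj AlgebraicGeometry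
  Topology

namespace Groth.Agent.GITQuot.Successive

variable {S : Scheme.{u}} {Ω : Type u} [Field Ω]

theorem exists_point [IsAlgClosed Ω] {T A B : Over S} (e : T.left ≅ Spec (CommRingCat.of Ω)) (p : A ⟶ B)
    [LocallyOfFiniteType p.left] (b : T ⟶ B) (h : ∀ t, b.left.base t ∈ Set.range p.left.base) :
    ∃ x : T ⟶ A, x ≫ p = b := by
  let r := pullback.snd p.left b.left ≫ e.hom
  haveI : JacobsonSpace (pullback p.left b.left : Scheme.{u}) := LocallyOfFiniteType.jacobsonSpace r
  let t₀ := e.inv.base (IsLocalRing.closedPoint Ω)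
  obtain ⟨x₀, hx₀⟩ := h t₀
  obtain ⟨z, -, -⟩ := Scheme.Pullback.exists_preimage_pullback (f := p.left) (g := b.left) x₀ t₀ hx₀
  obtain ⟨c, -, hc⟩ := nonempty_inter_closedPoints (Z := (Set.univ : Set (pullback p.left b.left : Scheme.{u})))
    ⟨z, trivial⟩ isOpen_univ.isLocallyClosed
  obtain ⟨s, hs⟩ := (pointEquivClosedPoint r).symm ⟨c, hc⟩
  have h' : (e.hom ≫ s) ≫ pullback.snd p.left b.left = 𝟙 _ := by
    rw [← cancel_mono e.hom, Category.assoc, Category.assoc, hs, Category.comp_id, Category.id_comp]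
  have hp : (e.hom ≫ s ≫ pullback.fst p.left b.left) ≫ p.left = b.left := by
    rw [Category.assoc, Category.assoc, pullback.condition, ← Category.assoc, ← Category.assoc, h', Category.id_comp]
  exact ⟨Over.homMk (e.hom ≫ s ≫ pullback.fst p.left b.left) (by rw [← Over.w p, ← Category.assoc, hp, Over.w]),
    Over.OverMorphism.ext hp⟩

/-- An affine scheme of finite type over an algebraically closed field is finite iff it has finitely many rational points. -/
theorem isFinite_iff_finite_points [IsAlgClosed Ω] {Z T : Scheme.{u}} (e : T ≅ Spec (CommRingCat.of Ω)) (p : Z ⟶ T)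
    [LocallyOfFiniteType p] [IsAffineHom p] : IsFinite p ↔ Finite {s : T ⟶ Z // s ≫ p = 𝟙 T} := by
  haveI : JacobsonSpace Z := LocallyOfFiniteType.jacobsonSpace (p ≫ e.hom)
  haveI : QuasiCompact (p ≫ e.hom) := inferInstance
  let E : {s : T ⟶ Z // s ≫ p = 𝟙 T} ≃ {s : Spec (CommRingCat.of Ω) ⟶ Z // s ≫ p ≫ e.hom = 𝟙 _} :=
    { toFun := fun s => ⟨e.inv ≫ s.1, by rw [Category.assoc, ← Category.assoc s.1, s.2]; simp⟩
      invFun := fun s => ⟨e.hom ≫ s.1, by
        rw [← cancel_mono e.hom, Category.assoc, Category.assoc, s.2, Category.comp_id, Category.id_comp]⟩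
      left_inv := fun s => Subtype.ext (by simp)
      right_inv := fun s => Subtype.ext (by simp) }
  have hE : Finite {s : T ⟶ Z // s ≫ p = 𝟙 T} ↔ (closedPoints Z).Finite := by
    rw [← Set.finite_coe_iff]
    exact (E.trans (pointEquivClosedPoint (p ≫ e.hom))).finite_iff
  rw [hE]
  have hfi : IsFinite p ↔ IsFinite (p ≫ e.hom) :=
    (MorphismProperty.cancel_right_of_respectsIso (P := @IsFinite) p e.hom).symm
  rw [hfi]
  constructor
  · intro hf
    exact ((locallyQuasiFinite_iff_finite_preimage_singleton.1 (inferInstance : LocallyQuasiFinite (p ≫ e.hom))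
      (IsLocalRing.closedPoint Ω)).subset fun z _ => Subsingleton.elim (α := Spec (CommRingCat.of Ω)) _ _)
  · intro hf
    have hcl : IsClosed (closedPoints Z) := by
      rw [← Set.biUnion_of_singleton (closedPoints Z)]
      exact hf.isClosed_biUnion fun z hz => hz
    have huniv : (Set.univ : Set Z).Finite := by
      rw [← closure_closedPoints (X := Z), hcl.closure_eq]
      exact hf
    haveI : LocallyQuasiFinite (p ≫ e.hom) :=
      LocallyQuasiFinite.of_finite_preimage_singleton _ fun x => huniv.subset (Set.subset_univ _)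
    exact IsFinite.of_locallyQuasiFinite _

/-- Rational points of the stabiliser. -/
noncomputable def stabSectionsEquiv {G X : Over S} [GrpObj G] (a : AlgGrp.Action G X) {T : Over S} (f : T ⟶ X) :
    {s : T.left ⟶ GLinSh.stab a f // s ≫ GLinSh.stabTo a f = 𝟙 _} ≃ {g : T ⟶ G // lift g f ≫ a.act = f} where
  toFun s :=
    let σ : T ⟶ G ⊗ T := Over.homMk (s.1 ≫ pullback.fst _ _) (by
      have := s.2
      rw [← Over.w (GIT.psi a f), Category.assoc, ← Category.assoc (pullback.fst _ _), pullback.condition,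
        Category.assoc, Over.w, ← Category.assoc, show s.1 ≫ pullback.snd _ _ = 𝟙 T.left from this, Category.id_comp])
    ⟨σ ≫ fst G T, by
      have e : σ ≫ GIT.psi a f = lift f (𝟙 T) := Over.OverMorphism.ext (by
        show (s.1 ≫ pullback.fst _ _) ≫ (GIT.psi a f).left = (lift f (𝟙 T)).left
        rw [Category.assoc, pullback.condition, ← Category.assoc,
          show s.1 ≫ pullback.snd _ _ = 𝟙 T.left from s.2, Category.id_comp])
      have hsnd : σ ≫ snd G T = 𝟙 T := by
        have := congrArg (fun z => z ≫ snd X T) e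
        simpa [GIT.psi] using this
      have h2 := congrArg (fun z => z ≫ fst X T) e
      simp only [GIT.psi, Category.assoc, lift_fst] at h2
      have e2 : σ ≫ (G ◁ f) = lift (σ ≫ fst G T) f := by
        apply CartesianMonoidalCategory.hom_ext
        · simp
        · rw [Category.assoc, whiskerLeft_snd, ← Category.assoc, hsnd, Category.id_comp, lift_snd]
      rw [← e2, Category.assoc, h2]⟩
  invFun g := ⟨pullback.lift (lift g.1 (𝟙 T)).left (𝟙 _) (by
      rw [Category.id_comp, ← Over.comp_left]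
      congr 1
      apply CartesianMonoidalCategory.hom_ext
      · simp only [GIT.psi, Category.assoc, lift_fst, lift_whiskerLeft_assoc, Category.id_comp]
        exact g.2
      · simp [GIT.psi]), pullback.lift_snd _ _ _⟩
  left_inv s := by
    refine Subtype.ext (pullback.hom_ext ?_ ?_)
    · rw [pullback.lift_fst]
      let σ : T ⟶ G ⊗ T := Over.homMk (s.1 ≫ pullback.fst _ _) (by
        rw [← Over.w (GIT.psi a f), Category.assoc, ← Category.assoc (pullback.fst _ _), pullback.condition,
          Category.assoc, Over.w, ← Category.assoc, show s.1 ≫ pullback.snd _ _ = 𝟙 T.left from s.2, Category.id_comp])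
      have e : σ ≫ GIT.psi a f = lift f (𝟙 T) := Over.OverMorphism.ext (by
        show (s.1 ≫ pullback.fst _ _) ≫ (GIT.psi a f).left = (lift f (𝟙 T)).left
        rw [Category.assoc, pullback.condition, ← Category.assoc,
          show s.1 ≫ pullback.snd _ _ = 𝟙 T.left from s.2, Category.id_comp])
      have hsnd : σ ≫ snd G T = 𝟙 T := by
        have := congrArg (fun z => z ≫ snd X T) e
        simpa [GIT.psi] using this
      show (lift (σ ≫ fst G T) (𝟙 T)).left = σ.left
      rw [← hsnd, lift_comp_fst_snd]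
    · rw [pullback.lift_snd]; exact s.2.symm
  right_inv g := by
    refine Subtype.ext ?_
    show _ ≫ fst G T = g.1
    refine Eq.trans (congrArg (· ≫ fst G T) ?_) (lift_fst g.1 (𝟙 T))
    exact Over.OverMorphism.ext (pullback.lift_fst _ _ _)

theorem isFinite_stabTo_iff [IsAlgClosed Ω] {G X : Over S} [GrpObj G] [IsAffineHom G.hom] [LocallyOfFiniteType G.hom]
    (a : AlgGrp.Action G X) {T : Over S} (e : T.left ≅ Spec (CommRingCat.of Ω)) (f : T ⟶ X) :
    IsFinite (GLinSh.stabTo a f) ↔ Finite {g : T ⟶ G // lift g f ≫ a.act = f} := by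
  let σ := (lift f (𝟙 T)).left
  let q : (X ⊗ T).left ⟶ Spec (CommRingCat.of Ω) := (snd X T).left ≫ e.hom
  have hσ : σ ≫ (snd X T).left = 𝟙 _ := by rw [← Over.comp_left, lift_snd]; rfl
  haveI : IsImmersion σ := by
    haveI : IsImmersion (σ ≫ (snd X T).left) := by rw [hσ]; infer_instance
    exact IsImmersion.of_comp σ (snd X T).left
  haveI : IsClosedImmersion σ := .of_isPreimmersion _ (by
    have hc := isClosed_section_point q (e.inv ≫ σ) (by
      show (e.inv ≫ σ) ≫ (snd X T).left ≫ e.hom = _
      rw [Category.assoc, ← Category.assoc σ, hσ, Category.id_comp, e.inv_hom_id])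
    have : Set.range (e.inv ≫ σ).base = Set.range σ.base := by
      rw [Scheme.Hom.comp_base, TopCat.coe_comp, Set.range_comp, e.inv.surjective.range_eq, Set.image_univ]
    exact Eq.mp (congrArg IsClosed this) hc)
  haveI : IsAffineHom (snd G T).left := MorphismProperty.pullback_snd (P := @IsAffineHom) G.hom T.hom inferInstance
  haveI : LocallyOfFiniteType (snd G T).left :=
    inferInstanceAs (LocallyOfFiniteType (pullback.snd G.hom T.hom))
  have hto : GLinSh.stabTo a f = pullback.fst (GIT.psi a f).left σ ≫ (snd G T).left := by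
    have h1 : (GIT.psi a f).left ≫ (snd X T).left = (snd G T).left := by
      rw [← Over.comp_left, GIT.psi, lift_snd]
    rw [← h1, ← Category.assoc, pullback.condition, Category.assoc, hσ, Category.comp_id]
    rfl
  haveI : LocallyOfFiniteType (GLinSh.stabTo a f) := by rw [hto]; infer_instance
  haveI : IsAffineHom (GLinSh.stabTo a f) := by rw [hto]; infer_instance
  rw [isFinite_iff_finite_points e]
  exact (stabSectionsEquiv a f).finite_iff

section

variable {H N Q X Y : Over S} [GrpObj H] [GrpObj N] [GrpObj Q] {i : N ⟶ H} {q : H ⟶ Q} [IsMonHom q]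
  {a : AlgGrp.Action H X} {aN : AlgGrp.Action N X} (haN : aN.act = (i ▷ X) ≫ a.act)
  {π : X ⟶ Y} (hπ : GIT.IsInvariant aN π) (ho : Function.Surjective (GIT.PsiY aN π hπ).base)
  {aQ : AlgGrp.Action Q Y} (hequiv : (q ⊗ₘ π) ≫ aQ.act = a.act ≫ π)

include hequiv in
theorem act_π {T : Over S} (g : T ⟶ H) (x : T ⟶ X) :
    lift (g ≫ q) (x ≫ π) ≫ aQ.act = (lift g x ≫ a.act) ≫ π := by
  rw [Category.assoc, ← hequiv, lift_map_assoc]

include haN ho hequiv in
theorem range_psi_eq [Surjective q.left] {T : Over S} (f : T ⟶ X) :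
    Set.range (GIT.psi a f).left.base = (π ▷ T).left.base ⁻¹' Set.range (GIT.psi aQ (f ≫ π)).left.base := by
  have hcomm : GIT.psi a f ≫ (π ▷ T) = (q ▷ T) ≫ GIT.psi aQ (f ≫ π) := by
    apply CartesianMonoidalCategory.hom_ext
    · have e : (H ◁ f) ≫ (q ⊗ₘ π) = (q ▷ T) ≫ (Q ◁ (f ≫ π)) := by
        apply CartesianMonoidalCategory.hom_ext <;> simp
      simp only [GIT.psi, Category.assoc, whiskerRight_fst, lift_fst, lift_fst_assoc]
      rw [← hequiv, reassoc_of% e]
    · simp [GIT.psi]
  ext z
  refine ⟨?_, ?_⟩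
  · rintro ⟨p, rfl⟩
    exact ⟨(q ▷ T).left.base p, (congrArg (fun m : H ⊗ T ⟶ Y ⊗ T => m.left.base p) hcomm).symm⟩
  · rintro ⟨w, hw⟩
    haveI : Surjective (q ▷ T).left := by
      have := GITQuot.isPullback_whiskerRight (X := H) (Y := Q) (φ := q) (Z := T)
      exact MorphismProperty.of_isPullback this inferInstance
    obtain ⟨w', hw'⟩ := (q ▷ T).left.surjective w
    let M := (π ▷ T).left
    let M' := ((q ▷ T) ≫ GIT.psi aQ (f ≫ π)).left
    have hwz : M.base z = M'.base w' := by
      show (π ▷ T).left.base z = (GIT.psi aQ (f ≫ π)).left.base ((q ▷ T).left.base w')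
      rw [hw', hw]
    obtain ⟨r, hr₁, hr₂⟩ := Scheme.Pullback.exists_preimage_pullback (f := M) (g := M') z w' hwz
    let P : Over S := Over.mk (pullback.fst M M' ≫ (X ⊗ T).hom)
    let z₁ : P ⟶ X ⊗ T := Over.homMk (pullback.fst M M') rfl
    let w₁ : P ⟶ H ⊗ T := Over.homMk (pullback.snd M M') (by
      show pullback.snd M M' ≫ (H ⊗ T).hom = pullback.fst M M' ≫ (X ⊗ T).hom
      rw [← Over.w ((q ▷ T) ≫ GIT.psi aQ (f ≫ π)), ← Over.w (π ▷ T), ← Category.assoc, ← Category.assoc,
        pullback.condition])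
    have hc : z₁ ≫ (π ▷ T) = w₁ ≫ (q ▷ T) ≫ GIT.psi aQ (f ≫ π) := Over.OverMorphism.ext pullback.condition
    rw [← hcomm] at hc
    have h1 := congrArg (fun m => m ≫ fst Y T) hc
    have h2 := congrArg (fun m => m ≫ snd Y T) hc
    simp only [Category.assoc, whiskerRight_fst, whiskerRight_snd] at h1 h2
    obtain ⟨R, rP, v, ρ, hρ, hva, hvs⟩ := GITQuot.exists_translate hπ ho (z₁ ≫ fst X T)
      (w₁ ≫ GIT.psi a f ≫ fst X T) (by simpa only [Category.assoc] using h1) r
    have hsnd : GIT.psi a f ≫ snd X T = snd H T := by simp [GIT.psi]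
    rw [hsnd] at h2
    let g : R ⟶ H := (v ≫ fst N X ≫ i) * (rP ≫ w₁ ≫ fst H T)
    have hg : lift g (rP ≫ z₁ ≫ snd X T) ≫ GIT.psi a f = rP ≫ z₁ := by
      apply CartesianMonoidalCategory.hom_ext
      · simp only [GIT.psi, Category.assoc, lift_fst, lift_whiskerLeft_assoc]
        rw [← hva, haN, ← lift_comp_fst_snd v, lift_whiskerRight_assoc, ← GrpSchLib.act_mul]
        simp only [lift_comp_fst_snd, Category.assoc, hvs]
        congr 2
        have e : H ◁ f = lift (fst H T) (snd H T ≫ f) := by
          apply CartesianMonoidalCategory.hom_ext <;> simp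
        rw [GIT.psi, lift_fst, e, ← Category.assoc w₁, comp_lift, reassoc_of% h2, ← Category.assoc rP (lift _ _), comp_lift]
      · simp [GIT.psi]
    refine ⟨(lift g (rP ≫ z₁ ≫ snd X T)).left.base ρ, ?_⟩
    rw [← Scheme.Hom.comp_apply, ← Over.comp_left, hg, Over.comp_left, Scheme.Hom.comp_apply, hρ]
    exact hr₁

include haN ho hequiv in
theorem isClosed_range_psi_iff [Surjective q.left] (hsubm : GIT.IsUnivSubmersive π.left) {T : Over S} (f : T ⟶ X) :
    IsClosed (Set.range (GIT.psi a f).left.base) ↔ IsClosed (Set.range (GIT.psi aQ (f ≫ π)).left.base) := by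
  rw [range_psi_eq haN hπ ho hequiv f]
  have h : IsQuotientMap (π ▷ T).left.base := hsubm _ _ _ GITQuot.isPullback_whiskerRight.flip
  exact h.isClosed_preimage

variable (hker : AlgGrp.IsKernel i q) [IsMonHom i]

include haN ho hequiv hker in
theorem finite_stab_iff [IsAlgClosed Ω] [Surjective q.left] [LocallyOfFiniteType q.left]
    [LocallyOfFiniteType (GIT.PsiY aN π hπ)] [Mono i] {T : Over S} (e : T.left ≅ Spec (CommRingCat.of Ω)) (f : T ⟶ X)
    (hfin : Finite {n : T ⟶ N // lift n f ≫ aN.act = f}) :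
    Finite {g : T ⟶ Q // lift g (f ≫ π) ≫ aQ.act = f ≫ π} ↔ Finite {g : T ⟶ H // lift g f ≫ a.act = f} := by
  let Φ : {g : T ⟶ H // lift g f ≫ a.act = f} → {g : T ⟶ Q // lift g (f ≫ π) ≫ aQ.act = f ≫ π} := fun g =>
    ⟨g.1 ≫ q, by rw [act_π hequiv, g.2]⟩
  have hN : ∀ n : T ⟶ N, lift n f ≫ aN.act = lift (n ≫ i) f ≫ a.act := fun n => by
    rw [haN, lift_whiskerRight_assoc]
  have hsurj : Function.Surjective Φ := by
    rintro ⟨g', hg'⟩
    obtain ⟨h, rfl⟩ := exists_point e q g' fun t => q.left.surjective _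
    rw [act_π hequiv] at hg'
    let π₀ : T.left ⟶ pullback π.left π.left :=
      pullback.lift f.left (lift h f ≫ a.act).left (congrArg CommaMorphism.left hg'.symm)
    have hbase : π₀ ≫ pullback.fst _ _ ≫ X.hom = T.hom := by
      rw [← Category.assoc, pullback.lift_fst, Over.w]
    let PY : Over S := Over.mk (pullback.fst π.left π.left ≫ X.hom)
    let ΨO : N ⊗ X ⟶ PY := Over.homMk (GIT.PsiY aN π hπ) (by
      show GIT.PsiY aN π hπ ≫ pullback.fst π.left π.left ≫ X.hom = _
      rw [← Category.assoc, GIT.PsiY, pullback.lift_fst, Over.w])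
    haveI : LocallyOfFiniteType ΨO.left := inferInstanceAs (LocallyOfFiniteType (GIT.PsiY aN π hπ))
    obtain ⟨v, hv⟩ := exists_point e ΨO (Over.homMk π₀ hbase) fun t => ho _
    have hv' := congrArg CommaMorphism.left hv
    have h₁ : v ≫ aN.act = f := Over.OverMorphism.ext (by
      have := congrArg (fun m => m ≫ pullback.fst π.left π.left) hv'
      simpa [ΨO, π₀, GIT.PsiY] using this)
    have h₂ : v ≫ snd N X = lift h f ≫ a.act := Over.OverMorphism.ext (by
      have := congrArg (fun m => m ≫ pullback.snd π.left π.left) hv'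
      simpa [ΨO, π₀, GIT.PsiY] using this)
    refine ⟨⟨(v ≫ fst N X ≫ i) * h, ?_⟩, Subtype.ext ?_⟩
    · rw [← GrpSchLib.act_mul, ← h₂, ← Category.assoc v (fst N X), ← lift_whiskerRight_assoc, ← haN,
        lift_comp_fst_snd, h₁]
    · show ((v ≫ fst N X ≫ i) * h) ≫ q = h ≫ q
      rw [MonObj.mul_comp, Category.assoc, Category.assoc, hker.w, ← Category.assoc, ← Category.assoc,
        comp_toUnit, ← Hom.one_def, _root_.one_mul]
  constructor
  · intro hQ
    haveI := hfin
    haveI := hQ
    haveI : ∀ y, Finite {g // Φ g = y} := fun y => by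
      rcases isEmpty_or_nonempty {g // Φ g = y} with h0 | ⟨⟨g₀, hg₀⟩⟩
      · exact inferInstance
      have hk : ∀ g : {g // Φ g = y}, (g.1.1 * g₀.1⁻¹) ≫ q = toUnit T ≫ η[Q] := fun g => by
        rw [MonObj.mul_comp, GrpObj.inv_comp, show g.1.1 ≫ q = g₀.1 ≫ q from
          congrArg Subtype.val (g.2.trans hg₀.symm), mul_inv_cancel, Hom.one_def]
      choose n hn hn' using fun g => hker.exists_lift _ _ (hk g)
      have hstab : ∀ g, lift (n g) f ≫ aN.act = f := fun g => by
        rw [hN, hn g]
        conv_lhs => arg 1; arg 2; rw [← g₀.2]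
        rw [GrpSchLib.act_mul, inv_mul_cancel_right]
        exact g.1.2
      refine Finite.of_injective (fun g => (⟨n g, hstab g⟩ : {n : T ⟶ N // lift n f ≫ aN.act = f})) ?_
      intro g g' h
      refine Subtype.ext (Subtype.ext (mul_right_cancel (b := g₀.1⁻¹) ?_))
      rw [← hn g, ← hn g', show n g = n g' from congrArg Subtype.val h]
    exact Finite.of_equiv _ (Equiv.sigmaFiberEquiv Φ)
  · intro hH
    haveI := hH
    exact Finite.of_surjective Φ hsurj

end

end Groth.Agent.GITQuot.Successive
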